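import Mathlib

/-!
# An invariant alternating form on a module of order 8 for a group of order 7 is zero

The radical of an alternating form in odd dimension is non-trivial and invariant.
-/

set_option autoImplicit false
set_option linter.style.haveILetI false

namespace CfsgLib.CentralInter88

/-- An alternating biadditive map on a group of order 8 invariant under an automorphism whose
powers carry one non-identity element to all the others is trivial. -/
theorem alternating_eq_one {V W : Type*} [Group V] [CommGroup W] (k : V ≃* V) {v : V} (hv : v ≠ 1)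
    (hk7 : (k ^ 7 : MulAut V) = 1)
    (hinj : ∀ i j : ℕ, i < 7 → j < 7 → (k ^ i : MulAut V) v = (k ^ j : MulAut V) v → i = j)
    (hsurj : ∀ x : V, x ≠ 1 → ∃ i : ℕ, i < 7 ∧ (k ^ i : MulAut V) v = x)
    (hsq : ∀ x : V, x * x = 1)
    (f : V → V → W) (hl : ∀ x y z, f (x * y) z = f x z * f y z)
    (hr : ∀ x y z, f x (y * z) = f x y * f x z) (halt : ∀ x, f x x = 1)
    (hinv : ∀ x y, f (k x) (k y) = f x y) : ∀ x y, f x y = 1 := by
  obtain ⟨w, hw⟩ : ∃ w : ℕ → V, ∀ i, w i = (k ^ i : MulAut V) v := ⟨_, fun _ => rfl⟩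
  have hw0 : w 0 = v := by rw [hw, pow_zero]; rfl
  have hwk : ∀ i, k (w i) = w (i + 1) := fun i => by rw [hw, hw, pow_succ']; rfl
  have hper : ∀ i, w (i + 7) = w i := fun i => by rw [hw, hw, pow_add, hk7, mul_one]
  have hone : ∀ x, f x 1 = 1 ∧ f 1 x = 1 := fun x => by
    constructor
    · have h := hr x 1 1
      rwa [one_mul, left_eq_mul] at h
    · have h := hl 1 1 x
      rwa [one_mul, left_eq_mul] at h
  have hW : ∀ x y, f x y * f x y = 1 := fun x y => by rw [← hl, hsq, (hone y).2]
  have hsymm : ∀ x y, f y x = f x y := fun x y => by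
    have h := halt (x * y)
    rw [hl, hr, hr, halt, halt, one_mul, mul_one] at h
    exact mul_left_cancel (h.trans (hW x y).symm)
  have hshift : ∀ i j, f (w (i + 1)) (w (j + 1)) = f (w i) (w j) := fun i j => by
    rw [← hwk, ← hwk, hinv]
  have hshiftn : ∀ n i j, f (w (i + n)) (w (j + n)) = f (w i) (w j) := by
    intro n
    induction n with
    | zero => intro i j; rfl
    | succ n ih => intro i j; rw [← add_assoc, ← add_assoc, hshift, ih]
  have hne : ∀ i, w i ≠ 1 := fun i h => hv (by
    rw [hw] at h
    exact (k ^ i : MulAut V).injective (h.trans (map_one _).symm))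
  have hd : ∀ {i j : ℕ}, i < 7 → j < 7 → w i = w j → i = j := fun {i j} hi hj h =>
    hinj i j hi hj (by rwa [← hw, ← hw])
  have h01 : w 0 * w 1 ≠ 1 := fun h => by
    have h' := congrArg (w 0 * ·) h
    simp only [← mul_assoc, hsq, one_mul, mul_one] at h'
    exact absurd (hd (by norm_num) (by norm_num) h') (by norm_num)
  obtain ⟨a, ha, hwa⟩ := hsurj _ h01
  rw [← hw] at hwa
  have hmul : ∀ n, w (a + n) = w n * w (1 + n) := by
    intro n
    induction n with
    | zero => exact hwa
    | succ n ih =>
      have h := congrArg k ih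
      rw [map_mul, hwk, hwk, hwk] at h
      simpa [add_assoc] using h
  have key : ∀ x y : V, x * (x * y) = y := fun x y => by rw [← mul_assoc, hsq, one_mul]
  have key' : ∀ x y : V, x * y * y = x := fun x y => by rw [mul_assoc, hsq, mul_one]
  have hall : ∀ j, j < 7 → f (w 0) (w j) = 1 := by
    -- shifting pairs to the base
    have hback : ∀ i j, i ≤ 7 → f (w 0) (w (j + (7 - i))) = f (w i) (w j) := fun i j hi => by
      rw [← hshiftn (7 - i) i j, Nat.add_sub_cancel' hi, show w 7 = w 0 from hper 0]
    have hflip : ∀ i, i ≤ 7 → f (w 0) (w (7 - i)) = f (w 0) (w i) := fun i hi => by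
      rw [hsymm (w i) (w 0), ← hback i 0 hi, zero_add]
    have hfa : f (w 0) (w a) = f (w 0) (w 1) := by rw [hwa, hr, halt, one_mul]
    have hfa1 : f (w 1) (w a) = f (w 0) (w 1) := by rw [hwa, hr, halt, mul_one, hsymm]
    interval_cases a
    · -- `a = 0`
      exact absurd (mul_eq_left.1 hwa.symm) (hne 1)
    · exact absurd (mul_eq_right.1 hwa.symm) (hne 0)
    · exfalso
      have h := hmul 1
      rw [show (1 : ℕ) + 1 = 2 from rfl, hwa, mul_comm' hsq (w 0) (w 1), key] at h
      exact absurd (hd (by norm_num) (by norm_num) h) (by norm_num)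
    · -- `a = 3`
      have h3 : f (w 0) (w 3) = f (w 0) (w 1) := hfa
      have h2 : f (w 0) (w 2) = f (w 0) (w 1) := by
        rw [← hfa1, ← hback 1 3 (by norm_num)]
        show f (w 0) (w 2) = f (w 0) (w (2 + 7))
        rw [hper]
      have h4 : f (w 0) (w 4) = f (w 0) (w 1) := by rw [← h3]; exact hflip 3 (by norm_num)
      have hc : f (w 0) (w 1) = 1 := by
        have h := congrArg (f (w 0)) (hmul 1)
        rw [show (3 : ℕ) + 1 = 4 from rfl, show (1 : ℕ) + 1 = 2 from rfl, hr, h4, h2, hW] at h
        exact h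
      intro j hj
      interval_cases j
      · exact halt _
      · exact hc
      · rw [h2, hc]
      · rw [h3, hc]
      · rw [h4, hc]
      · rw [show (5 : ℕ) = 7 - 2 from rfl, hflip 2 (by norm_num), h2, hc]
      · rw [show (6 : ℕ) = 7 - 1 from rfl, hflip 1 (by norm_num), hc]
    · exfalso
      have h2 : w 5 = w 1 * w 2 := hmul 1
      have h4 : w 8 = w 4 * w 5 := hmul 4
      rw [show w 8 = w 1 from hper 1, hwa, h2, mul_assoc, key] at h4
      exact hne 0 (by
        have h5 := congrArg (· * (w 2)) h4
        simp only [key'] at h5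
        have h6 : w 1 * w 2 = w 0 := h5
        rw [← h2] at h6
        exact absurd (hd (by norm_num) (by norm_num) h6) (by norm_num))
    · -- `a = 5`
      have h5 : f (w 0) (w 5) = f (w 0) (w 1) := hfa
      have h4 : f (w 0) (w 4) = f (w 0) (w 1) := by
        rw [← hfa1, ← hback 1 5 (by norm_num)]
        show f (w 0) (w 4) = f (w 0) (w (4 + 7))
        rw [hper]
      have h2 : f (w 0) (w 2) = f (w 0) (w 1) := by rw [← h5]; exact hflip 5 (by norm_num)
      have hc : f (w 0) (w 1) = 1 := by
        have h := congrArg (f (w 0)) (hmul 1)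
        rw [show (5 : ℕ) + 1 = 7 - 1 from rfl, show (1 : ℕ) + 1 = 2 from rfl, hr,
          hflip 1 (by norm_num), h2, hW] at h
        exact h
      intro j hj
      interval_cases j
      · exact halt _
      · exact hc
      · rw [h2, hc]
      · rw [show (3 : ℕ) = 7 - 4 from rfl, hflip 4 (by norm_num), h4, hc]
      · rw [h4, hc]
      · rw [h5, hc]
      · rw [show (6 : ℕ) = 7 - 1 from rfl, hflip 1 (by norm_num), hc]
    · exfalso
      have h2 : w 7 = w 1 * w 2 := hmul 1
      rw [show w 7 = w 0 from hper 0] at h2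
      have h1 : w 2 = w 0 * w 1 := by
        rw [h2, mul_comm' hsq (w 1 * w 2) (w 1), key]
      rw [← hwa] at h1
      exact absurd (hd (by norm_num) (by norm_num) h1) (by norm_num)
  intro x y
  by_cases hx : x = 1
  · rw [hx]; exact (hone y).2
  by_cases hy : y = 1
  · rw [hy]; exact (hone x).1
  obtain ⟨i, hi, rfl⟩ := hsurj x hx
  obtain ⟨j, hj, rfl⟩ := hsurj y hy
  rw [← hw, ← hw]
  by_cases hij : i ≤ j
  · obtain ⟨d, rfl⟩ := Nat.exists_eq_add_of_le hij
    have h := hshiftn i 0 d
    rw [zero_add, add_comm d i] at h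
    rw [h]
    exact hall d (by omega)
  · obtain ⟨d, rfl⟩ := Nat.exists_eq_add_of_le (Nat.le_of_not_le hij)
    have h := hshiftn j d 0
    rw [zero_add, add_comm d j] at h
    rw [h, hsymm]
    exact hall d (by omega)
where
  mul_comm' {V : Type _} [Group V] (hsq : ∀ x : V, x * x = 1) (x y : V) : x * y = y * x := by
    have hi : ∀ z : V, z⁻¹ = z := fun z => inv_eq_of_mul_eq_one_right (hsq z)
    have h := hi (x * y)
    rw [mul_inv_rev, hi, hi] at h
    exact h.symm

end CfsgLib.CentralInter88
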