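import Cfsg.Agent.S3183
import Cfsg.Agent.S3184
import Cfsg.Agent.Inv53.Basic
import Cfsg.Agent.TwoGroups.IsolatedZStar
import Cfsg.Prelude.Def_TwoFusion

/-!
# Central Sylow 2-intersections: elementary consequences

`CI G`: the intersection of two distinct Sylow 2-subgroups is central in some Sylow 2-subgroup.
It is then central in both; hence a non-central element of `S` lies in no other Sylow subgroup.
The property passes to subgroups and to quotients by central 2-subgroups.
-/

set_option autoImplicit false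
set_option linter.style.haveILetI false
set_option linter.unusedSectionVars false

open Subgroup
open scoped commutatorElement

namespace CfsgLib.CentralInter88

universe u v

/-- Sylow 2-intersections are central in some Sylow 2-subgroup. -/
def CI (G : Type*) [Group G] : Prop :=
  ∀ S T : Sylow 2 G, S ≠ T → ∃ U : Sylow 2 G,
    (S : Subgroup G) ⊓ (T : Subgroup G) ≤
      (Subgroup.center ↥(U : Subgroup G)).map (U : Subgroup G).subtype

/-- `x` is a non-central element of `S`. -/
def NC {G : Type*} [Group G] (S : Subgroup G) (x : G) : Prop :=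
  x ∈ S ∧ ∃ s ∈ S, s * x ≠ x * s

/-- The derived subgroup of `P` is not cyclic. -/
def Good (P : Type*) [Group P] : Prop := ¬ IsCyclic (_root_.commutator P)

variable {G : Type u} [Group G] [Finite G]

theorem CI.central (hG : CI G) {S T : Sylow 2 G} (h : S ≠ T) {x : G}
    (hxS : x ∈ (S : Subgroup G)) (hxT : x ∈ (T : Subgroup G)) {s : G}
    (hs : s ∈ (S : Subgroup G)) : s * x = x * s :=
  (CfsgLib.Inv53.mem_center_map_iff.1
    (mem_inf.1 ((Cfsg.Agent.S3183.result hG S).2 T h.symm ⟨hxS, hxT⟩)).1).2 s hs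

/-- A non-central element of `S` lies in no other Sylow subgroup. -/
theorem CI.eq_of_nc (hG : CI G) {S T : Sylow 2 G} {x : G} (hx : NC (S : Subgroup G) x)
    (hxT : x ∈ (T : Subgroup G)) : T = S := by
  by_contra hne
  obtain ⟨hxS, s, hs, hsx⟩ := hx
  exact hsx (hG.central (Ne.symm hne) hxS hxT hs)

/-- An element carrying a non-central element of `S` into `S` normalizes `S`. -/
theorem CI.mem_normalizer (hG : CI G) {S : Sylow 2 G} {x g : G} (hx : NC (S : Subgroup G) x)
    (hg : g⁻¹ * x * g ∈ (S : Subgroup G)) : g ∈ normalizer ((S : Subgroup G) : Set G) := by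
  have hmem : x ∈ (g • S : Sylow 2 G) := ⟨g⁻¹ * x * g, hg, by simp [mul_assoc]⟩
  exact Sylow.smul_eq_iff_mem_normalizer.1 (hG.eq_of_nc hx hmem)

theorem CI.centralizer_le (hG : CI G) {S : Sylow 2 G} {x : G} (hx : NC (S : Subgroup G) x) :
    centralizer ({x} : Set G) ≤ normalizer ((S : Subgroup G) : Set G) := fun g hg =>
  hG.mem_normalizer hx (by
    rw [mul_assoc, ← mem_centralizer_singleton_iff.1 hg, inv_mul_cancel_left]; exact hx.1)

/-- The property passes to any group embedded in `G`. -/
theorem CI.of_injective (hG : CI G) {H : Type v} [Group H] (f : H →* G)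
    (hf : Function.Injective f) : CI H := by
  haveI : Fact (Nat.Prime 2) := ⟨Nat.prime_two⟩
  intro S T hne
  have key : ∀ R : Sylow 2 H, ∃ R' : Sylow 2 G, (R : Subgroup H) = (R' : Subgroup G).comap f :=
    fun R => by
      obtain ⟨R', hR'⟩ := (R.2.map f).exists_le_sylow
      exact ⟨R', (R.is_maximal' (R'.2.comap_of_injective f hf)
        (map_le_iff_le_comap.1 hR')).symm⟩
  obtain ⟨S', hS⟩ := key S
  obtain ⟨T', hT⟩ := key T
  have hne' : S' ≠ T' := fun h => hne (Sylow.ext (by rw [hS, hT, h]))
  refine ⟨S, fun x hx => ?_⟩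
  refine CfsgLib.Inv53.mem_center_map_iff.2 ⟨hx.1, fun s hs => hf ?_⟩
  have hxS : f x ∈ (S' : Subgroup G) := mem_comap.1 (hS ▸ hx.1)
  have hxT : f x ∈ (T' : Subgroup G) := mem_comap.1 (hT ▸ hx.2)
  rw [map_mul, map_mul]
  exact hG.central hne' hxS hxT (mem_comap.1 (hS ▸ hs))

/-- A normal 2-subgroup lies in every Sylow 2-subgroup. -/
theorem le_sylow_of_normal {N : Subgroup G} [N.Normal] (hN : IsPGroup 2 N) (S : Sylow 2 G) :
    N ≤ (S : Subgroup G) :=
  le_sup_left.trans
    (S.is_maximal' (hN.to_sup_of_normal_left S.2) le_sup_right).le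

/-- The property passes to the quotient by a normal subgroup lying in every Sylow subgroup. -/
theorem CI.map_surjective (hG : CI G) {H : Type v} [Group H] (f : G →* H)
    (hf : Function.Surjective f) (hker : IsPGroup 2 f.ker) : CI H := by
  haveI : Fact (Nat.Prime 2) := ⟨Nat.prime_two⟩
  haveI : Finite H := Finite.of_surjective f hf
  intro S T hne
  obtain ⟨S₀⟩ : Nonempty (Sylow 2 G) := inferInstance
  have key : ∀ R : Sylow 2 H, ∃ R' : Sylow 2 G, (R : Subgroup H) = (R' : Subgroup G).map f :=
    fun R => by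
      obtain ⟨h, hh⟩ := MulAction.exists_smul_eq H (S₀.mapSurjective hf) R
      obtain ⟨g, rfl⟩ := hf h
      refine ⟨g • S₀, ?_⟩
      rw [← hh]
      ext y
      constructor
      · rintro ⟨_, ⟨s, hs, rfl⟩, rfl⟩
        exact ⟨g * s * g⁻¹, ⟨s, hs, rfl⟩, by simp⟩
      · rintro ⟨_, ⟨s, hs, rfl⟩, rfl⟩
        exact ⟨f s, ⟨s, hs, rfl⟩, by simp⟩
  obtain ⟨S', hS⟩ := key S
  obtain ⟨T', hT⟩ := key T
  have hne' : S' ≠ T' := fun h => hne (Sylow.ext (by rw [hS, hT, h]))
  refine ⟨S, fun y hy => ?_⟩
  refine CfsgLib.Inv53.mem_center_map_iff.2 ⟨hy.1, fun r hr => ?_⟩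
  obtain ⟨x, hxS, rfl⟩ : y ∈ (S' : Subgroup G).map f := hS ▸ hy.1
  obtain ⟨x', hxT, hxx⟩ : f x ∈ (T' : Subgroup G).map f := hT ▸ hy.2
  obtain ⟨s, hs, rfl⟩ : r ∈ (S' : Subgroup G).map f := hS ▸ hr
  have hk : x'⁻¹ * x ∈ f.ker := by rw [MonoidHom.mem_ker, map_mul, map_inv, hxx, inv_mul_cancel]
  have hxT' : x ∈ (T' : Subgroup G) := by
    rw [show x = x' * (x'⁻¹ * x) by group]
    exact mul_mem hxT (le_sylow_of_normal hker T' hk)
  rw [← map_mul, ← map_mul, hG.central hne' hxS hxT' hs]

theorem CI.quotient (hG : CI G) (N : Subgroup G) [N.Normal] (hN : IsPGroup 2 N) : CI (G ⧸ N) :=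
  hG.map_surjective (QuotientGroup.mk' N) (QuotientGroup.mk'_surjective N)
    (by rwa [QuotientGroup.ker_mk'])

theorem good_congr {P : Type u} {R : Type v} [Group P] [Group R] (e : P ≃* R) (h : Good P) :
    Good R := by
  intro hc
  refine h ?_
  have hmap : (_root_.commutator P).map e.toMonoidHom = _root_.commutator R := by
    rw [commutator_def, commutator_def, map_commutator, Subgroup.map_top_of_surjective _ e.surjective]
  haveI := hc
  exact isCyclic_of_surjective
    ((((_root_.commutator P).equivMapOfInjective e.toMonoidHom e.injective).trans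
      (MulEquiv.subgroupCongr hmap)).symm : _root_.commutator R →* _root_.commutator P)
    (MulEquiv.surjective _)

theorem Good.exists_nc {S : Subgroup G} (h : Good S) : ∃ x, NC S x := by
  by_contra hno
  simp only [NC, not_exists, not_and, not_not] at hno
  refine h ?_
  have : _root_.commutator S = ⊥ := by
    rw [commutator_def, commutator_eq_bot_iff_le_centralizer]
    exact fun a _ => mem_centralizer_iff.2 fun b _ => Subtype.ext (hno a a.2 b b.2)
  rw [this]
  infer_instance

theorem good_sylow {S T : Sylow 2 G} (h : Good (S : Subgroup G)) : Good (T : Subgroup G) := by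
  haveI : Fact (Nat.Prime 2) := ⟨Nat.prime_two⟩
  exact good_congr (Sylow.equiv S T) h

/-- In a non-abelian simple group with a non-abelian Sylow 2-subgroup `S`, the derived subgroup
of `S` is not cyclic. -/
theorem good_of_simple [IsSimpleGroup G] (hna : ¬ IsMulCommutative G) (hG : CI G)
    (S : Sylow 2 G) (hS : ¬ IsMulCommutative (S : Subgroup G)) : Good (S : Subgroup G) := by
  haveI : Fact (Nat.Prime 2) := ⟨Nat.prime_two⟩
  intro hc
  set C := _root_.commutator (S : Subgroup G)
  have hCne : C ≠ ⊥ := fun h => hS ⟨⟨fun a b => by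
    have : ⁅a, b⁆ ∈ C := commutator_mem_commutator (mem_top a) (mem_top b)
    rw [h, mem_bot] at this
    exact commutatorElement_eq_one_iff_mul_comm.1 this⟩⟩
  haveI : Nontrivial C := (nontrivial_iff_ne_bot C).2 hCne
  obtain ⟨c, hc2⟩ : ∃ c : C, orderOf c = 2 := by
    refine exists_prime_orderOf_dvd_card' 2 ?_
    obtain ⟨k, hk⟩ := IsPGroup.iff_card.1 (S.2.to_subgroup C)
    have := Finite.one_lt_card (α := C)
    rw [hk] at this ⊢
    rcases k with _ | k
    · simp at this
    · exact dvd_pow_self 2 (by omega)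
  have hcS : orderOf (c : (S : Subgroup G)) = 2 := by rw [orderOf_coe, hc2]
  have hmk := Cfsg.Agent.S3184.result hG S C hCne hc
    (by show (_root_.commutator _).Characteristic; infer_instance) c c.2 hcS
  have hO : Cfsg.oddCore G = ⊥ := by
    rcases (inferInstance : (Cfsg.oddCore G).Normal).eq_bot_or_eq_top with h | h
    · exact h
    · exfalso
      have hodd := CfsgLib.TwoGroups.odd_card_oddCore (G := G)
      rw [h, Subgroup.card_top] at hodd
      have : orderOf ((c : (S : Subgroup G)) : G) = 2 := by rw [orderOf_coe, hcS]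
      exact hodd.not_two_dvd_nat (this ▸ orderOf_dvd_natCard _)
  have hcen : ((c : (S : Subgroup G)) : G) ∈ Subgroup.center G := by
    refine mem_center_iff.2 fun g => ?_
    have h := QuotientGroup.eq.1 (hmk g)
    rw [hO, mem_bot, inv_mul_eq_one] at h
    exact mul_inv_eq_iff_eq_mul.1 h
  rcases (inferInstance : (Subgroup.center G).Normal).eq_bot_or_eq_top with h | h
  · rw [h, mem_bot] at hcen
    rw [show (c : (S : Subgroup G)) = 1 from Subtype.ext hcen, orderOf_one] at hcS
    omega
  · exact hna ⟨⟨fun a b => (mem_center_iff.1 (h ▸ mem_top b) a)⟩⟩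

end CfsgLib.CentralInter88
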