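import Cfsg.Agent.CentralInter88.Basic
import Cfsg.Agent.BenderUse.SplitUse
import Cfsg.Agent.SEmbed.RankOneBridge
import Cfsg.Agent.SEmbed.Counting
import Cfsg.Agent.Small.StronglyEmbedded

/-!
# Central Sylow 2-intersections: strongly embedded `N(S)`

If the involution centralizers of the elements of `S` lie in `N(S)` then `N(S)` is strongly
embedded.  In a simple group its orbits are then known from Bender's theorem: `S` is transitive on
the other Sylow subgroups, and `N(S)` is transitive on the involutions of `S` and fixes none.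
-/

set_option autoImplicit false
set_option linter.style.haveILetI false
set_option linter.unusedSectionVars false

open Subgroup

namespace CfsgLib.CentralInter88

universe u

variable {G : Type u} [Group G] [Finite G]

/-- An involution of `S`, conjugate to one with centralizer in `N(S)`, has one there too. -/
theorem CI.centralizer_le_of_conj (hG : CI G) {S : Sylow 2 G} {z g : G}
    (hz : z ∈ (S : Subgroup G))
    (hC : centralizer ({z} : Set G) ≤ normalizer ((S : Subgroup G) : Set G))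
    (hg : g * z * g⁻¹ ∈ (S : Subgroup G)) :
    centralizer ({g * z * g⁻¹} : Set G) ≤ normalizer ((S : Subgroup G) : Set G) := by
  have hCg : ∀ c ∈ centralizer ({g * z * g⁻¹} : Set G),
      g⁻¹ * c * g ∈ normalizer ((S : Subgroup G) : Set G) := fun c hc => by
    refine hC (mem_centralizer_singleton_iff.2 ?_)
    have h := mem_centralizer_singleton_iff.1 hc
    calc g⁻¹ * c * g * z = g⁻¹ * (c * (g * z * g⁻¹)) * g := by group
      _ = g⁻¹ * (g * z * g⁻¹ * c) * g := by rw [h]
      _ = z * (g⁻¹ * c * g) := by group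
  by_cases hgS : g • S = S
  · intro c hc
    have hgN := Sylow.smul_eq_iff_mem_normalizer.1 hgS
    have := mul_mem (mul_mem hgN (hCg c hc)) (inv_mem hgN)
    rwa [show g * (g⁻¹ * c * g) * g⁻¹ = c by group] at this
  exfalso
  refine hgS (Sylow.ext ?_)
  -- `S` centralizes the common element, hence normalizes `g • S`
  have hle : ∀ s ∈ (S : Subgroup G), g⁻¹ * s * g ∈ normalizer ((S : Subgroup G) : Set G) :=
    fun s hs => hCg s (mem_centralizer_singleton_iff.2
      (hG.central (Ne.symm hgS) hg (show g * z * g⁻¹ ∈ (g • S : Sylow 2 G) from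
        ⟨z, hz, rfl⟩) hs))
  have hsub : ∀ s ∈ (S : Subgroup G), g⁻¹ * s * g ∈ (S : Subgroup G) := fun s hs => by
    haveI : Fact (Nat.Prime 2) := ⟨Nat.prime_two⟩
    obtain ⟨k, hk⟩ := S.2 ⟨s, hs⟩
    have hk' : (g⁻¹ * s * g) ^ 2 ^ k = 1 := by
      have h := congrArg Subtype.val hk
      push_cast at h
      have := conj_pow (a := g⁻¹) (b := s) (i := 2 ^ k)
      rw [inv_inv] at this
      rw [this, h, mul_one, inv_mul_cancel]
    have hp : IsPGroup 2 (zpowers (g⁻¹ * s * g)) := IsPGroup.of_card_dvd_pow (n := k) (by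
      rw [Nat.card_zpowers]; exact orderOf_dvd_of_pow_eq_one hk')
    exact (S.is_maximal' (S.2.to_sup_of_normal_left' hp (zpowers_le.2 (hle s hs)))
      le_sup_left).le (le_sup_right (a := (S : Subgroup G)) (mem_zpowers _))
  refine (eq_of_le_of_card_ge (H := (S : Subgroup G)) (K := ((g • S : Sylow 2 G) : Subgroup G))
    (fun s hs => ⟨g⁻¹ * s * g, hsub s hs, by simp [mul_assoc]⟩) ?_).symm
  exact (Nat.card_congr (Sylow.equiv (g • S) S).toEquiv).le

/-- An element of 2-power order of `N(S)` lies in `S`. -/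
theorem mem_of_invol (S : Sylow 2 G) {z : G} (hz : orderOf z = 2)
    (hn : z ∈ normalizer ((S : Subgroup G) : Set G)) : z ∈ (S : Subgroup G) := by
  haveI : Fact (Nat.Prime 2) := ⟨Nat.prime_two⟩
  have hp : IsPGroup 2 (zpowers z) := IsPGroup.of_card (n := 1) (by
    rw [Nat.card_zpowers, hz, pow_one])
  exact (S.is_maximal' (S.2.to_sup_of_normal_left' hp (zpowers_le.2 hn)) le_sup_left).le
    (le_sup_right (a := (S : Subgroup G)) (mem_zpowers z))

/-- Small centralizers give strong embedding. -/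
theorem CI.isStronglyEmbedded (hG : CI G) (S : Sylow 2 G)
    (hC : ∀ z ∈ (S : Subgroup G), orderOf z = 2 →
      centralizer ({z} : Set G) ≤ normalizer ((S : Subgroup G) : Set G))
    (hne : normalizer ((S : Subgroup G) : Set G) ≠ ⊤) (heven : 2 ∣ Nat.card G) :
    Cfsg.IsStronglyEmbedded (normalizer ((S : Subgroup G) : Set G)) := by
  haveI : Fact (Nat.Prime 2) := ⟨Nat.prime_two⟩
  have hev : Even (Nat.card (normalizer ((S : Subgroup G) : Set G) : Subgroup G)) := by
    refine even_iff_two_dvd.2 (dvd_trans ?_ (card_dvd_of_le le_normalizer))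
    have : 2 ∣ Nat.card (S : Subgroup G) * (S : Subgroup G).index := by rwa [card_mul_index]
    exact ((Nat.prime_two.dvd_mul).1 this).resolve_right S.not_dvd_index
  refine (CfsgLib.Small.isStronglyEmbedded_iff hne hev).2 fun s hs ho g hg => ?_
  have hsS := mem_of_invol S ho hs
  have ho' : orderOf (g⁻¹ * s * g) = 2 := by
    have := CfsgLib.Small.orderOf_conj_eq g⁻¹ s
    rw [inv_inv] at this
    rw [this, ho]
  have hgS := mem_of_invol S ho' hg
  refine Sylow.smul_eq_iff_mem_normalizer.1 ?_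
  by_contra hne'
  have hsg : s ∈ (g • S : Sylow 2 G) := ⟨_, hgS, by simp [mul_assoc]⟩
  refine hne' (Sylow.ext ?_)
  have hle : ((g • S : Sylow 2 G) : Subgroup G) ≤ normalizer ((S : Subgroup G) : Set G) :=
    fun t ht => hC s hsS ho (mem_centralizer_singleton_iff.2 (hG.central hne' hsg hsS ht))
  exact ((g • S).is_maximal' S.2 fun t ht => by
    obtain ⟨k, hk⟩ := (g • S).2 ⟨t, ht⟩
    have hp : IsPGroup 2 (zpowers t) := IsPGroup.of_card_dvd_pow (n := k) (by
      rw [Nat.card_zpowers]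
      exact orderOf_dvd_of_pow_eq_one (by simpa using congrArg Subtype.val hk))
    exact (S.is_maximal' (S.2.to_sup_of_normal_left' hp (zpowers_le.2 (hle ht))) le_sup_left).le
      (le_sup_right (a := (S : Subgroup G)) (mem_zpowers t))).symm

section Simple

variable [IsSimpleGroup G] {S : Sylow 2 G}
  (hSE : Cfsg.IsStronglyEmbedded (normalizer ((S : Subgroup G) : Set G)))
include hSE

theorem exists_fourGroup : ∃ V : Subgroup G, CfsgLib.SEmbed.IsFour V := by
  obtain ⟨x, y, hx, hy, hxy, hx2, hy2, hc⟩ := CfsgLib.SEmbed.exists_commuting_invols hSE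
  exact ⟨_, CfsgLib.SEmbed.isFour_closure_pair
    (CfsgLib.Small.orderOf_eq_two_iff_sq.2 ⟨hx, hx2⟩)
    (CfsgLib.Small.orderOf_eq_two_iff_sq.2 ⟨hy, hy2⟩) hxy hc⟩

/-- `S` is transitive on the other Sylow subgroups. -/
theorem exists_mem_conj (hsplit : CfsgLib.BenderUse.SplitHyp.{u}) {g₁ g₂ : G}
    (h₁ : g₁ ∉ normalizer ((S : Subgroup G) : Set G))
    (h₂ : g₂ ∉ normalizer ((S : Subgroup G) : Set G)) :
    ∃ s ∈ (S : Subgroup G), g₂⁻¹ * (s * g₁) ∈ normalizer ((S : Subgroup G) : Set G) := by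
  haveI : Fact (Nat.Prime 2) := ⟨Nat.prime_two⟩
  obtain ⟨V, hV⟩ := exists_fourGroup hSE
  obtain ⟨T, hT, -, htr⟩ :=
    CfsgLib.BenderUse.exists_sylow_transitive (CfsgLib.BenderUse.hyp_of_split hsplit) hSE hV
  have hTS : (T : Subgroup G) = (S : Subgroup G) := by
    have hp : IsPGroup 2 ((S : Subgroup G) ⊔ (T : Subgroup G) : Subgroup G) :=
      S.2.to_sup_of_normal_left' T.2 hT
    exact (T.is_maximal' hp le_sup_right).symm.trans (S.is_maximal' hp le_sup_left)
  obtain ⟨s, hs, h⟩ := htr g₁ g₂ h₁ h₂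
  exact ⟨s, hTS ▸ hs, h⟩

/-- `N(S)` is transitive on the involutions of `S`. -/
theorem exists_conj_invol {a b : G} (haS : a ∈ (S : Subgroup G)) (hbS : b ∈ (S : Subgroup G))
    (ha : orderOf a = 2) (hb : orderOf b = 2) :
    ∃ n ∈ normalizer ((S : Subgroup G) : Set G), n * a * n⁻¹ = b := by
  haveI := CfsgLib.SEmbed.nontrivial_cosets hSE
  obtain ⟨g, hg⟩ := isConj_iff.1
    (CfsgLib.SEmbed.isConj_invol (CfsgLib.SEmbed.uniqueFix hSE) ha hb)
  refine ⟨g, (CfsgLib.Small.isStronglyEmbedded_iff hSE.1 hSE.2.1).1 hSE b (le_normalizer hbS) hb g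
    ?_, hg⟩
  rw [← hg, show g⁻¹ * (g * a * g⁻¹) * g = a by group]
  exact le_normalizer haS

/-- `N(S)` fixes no involution of `S`. -/
theorem not_fixed {a : G} (haS : a ∈ (S : Subgroup G)) (ha : orderOf a = 2) :
    ∃ n ∈ normalizer ((S : Subgroup G) : Set G), n * a * n⁻¹ ≠ a := by
  haveI : Fact (Nat.Prime 2) := ⟨Nat.prime_two⟩
  by_contra hfix
  push Not at hfix
  obtain ⟨V, hV⟩ := exists_fourGroup hSE
  obtain ⟨T, hT⟩ := hV.isPGroup.exists_le_sylow
  obtain ⟨c, hc⟩ := MulAction.exists_smul_eq G T S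
  have hmem : ∀ v ∈ V, v ≠ 1 → c * v * c⁻¹ = a := fun v hv hv1 => by
    have hvS : c * v * c⁻¹ ∈ (S : Subgroup G) := hc ▸ ⟨v, hT hv, rfl⟩
    obtain ⟨n, hn, he⟩ := exists_conj_invol hSE haS hvS ha
      (by rw [CfsgLib.Small.orderOf_conj_eq, hV.orderOf_eq_two hv hv1])
    rw [← he, hfix n hn]
  obtain ⟨v, hv, hvo⟩ := hV.exists_invol
  refine hV.not_isCyclic ⟨⟨⟨v, hv⟩, fun w => ?_⟩⟩
  by_cases hw1 : (w : G) = 1
  · exact ⟨0, Subtype.ext (by simp [hw1])⟩
  · refine ⟨1, Subtype.ext ?_⟩
    have := (hmem w w.2 hw1).trans (hmem v hv (CfsgLib.Small.ne_one_of_orderOf_two hvo)).symm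
    simpa using (conj_injective this).symm
where
  conj_injective {c x y : G} (h : c * x * c⁻¹ = c * y * c⁻¹) : x = y :=
    mul_left_cancel (mul_right_cancel h)

end Simple

end CfsgLib.CentralInter88
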