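import Cfsg.Agent.WalterCons88.Main
import Cfsg.Agent.Inv53.AbelianEight
import Cfsg.Agent.Linear.SL2Sylow
import Cfsg.Agent.Linear.SylowChar
import Cfsg.Agent.S0276

/-!
# Simple groups with abelian Sylow 2-subgroups: elementary, one class of involutions

Derived from Walter's list.
-/

set_option autoImplicit false
set_option linter.style.haveILetI false
set_option linter.unusedSectionVars false

open Subgroup Matrix

namespace CfsgLib.CentralInter88

universe u

/-- Abelian Sylow 2-subgroups of simple groups are elementary and involutions are conjugate. -/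
def AbelianFacts : Prop :=
  ∀ (K : Type u) [Group K] [Finite K], IsSimpleGroup K → ¬ IsMulCommutative K →
    ∀ S : Sylow 2 K, IsMulCommutative (S : Subgroup K) →
      (∀ s ∈ (S : Subgroup K), s * s = 1) ∧
        ∀ a ∈ (S : Subgroup K), ∀ b ∈ (S : Subgroup K), a ≠ 1 → b ≠ 1 → IsConj a b

variable {F : Type} [Field F] [Fintype F]

/-- In `SL₂(2^a)` a Sylow 2-subgroup is elementary with one class of involutions. -/
theorem sl_two_even {a : ℕ} (hF : Fintype.card F = 2 ^ a) :
    ∃ P : Sylow 2 (Matrix.SpecialLinearGroup (Fin 2) F),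
      (∀ s ∈ (P : Subgroup (Matrix.SpecialLinearGroup (Fin 2) F)), s * s = 1) ∧
      ∀ s ∈ (P : Subgroup (Matrix.SpecialLinearGroup (Fin 2) F)),
        ∀ t ∈ (P : Subgroup (Matrix.SpecialLinearGroup (Fin 2) F)), s ≠ 1 → t ≠ 1 → IsConj s t := by
  haveI : Fact (Nat.Prime 2) := ⟨Nat.prime_two⟩
  haveI := CfsgLib.WalterCons88.charP_two hF
  have hidx : ¬ 2 ∣ (CfsgLib.Linear.upperSL (F := F)).index := by
    rw [CfsgLib.Linear.index_upperSL]
    exact CfsgLib.Linear.not_dvd_pow_sub_one (p := 2) two_ne_zero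
  refine ⟨(CfsgLib.Linear.isPGroup_upperSL (p := 2)).toSylow hidx, ?_, ?_⟩
  · intro s hs
    obtain ⟨x, hx⟩ := CfsgLib.Linear.mem_upperSL.1 hs
    subst hx
    refine Subtype.ext ?_
    rw [Matrix.SpecialLinearGroup.coe_mul, CfsgLib.Linear.upperUni_val,
      Matrix.SpecialLinearGroup.coe_one]
    ext i j
    fin_cases i <;> fin_cases j <;>
      simp [Matrix.mul_apply, Fin.sum_univ_two, CharTwo.add_self_eq_zero]
  · intro s hs t ht hs1 ht1
    obtain ⟨x, hx⟩ := CfsgLib.Linear.mem_upperSL.1 hs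
    obtain ⟨y, hy⟩ := CfsgLib.Linear.mem_upperSL.1 ht
    subst hx hy
    have h0 : ∀ z : F, z = 0 → CfsgLib.Linear.upperUni z = 1 := fun z hz => Subtype.ext (by
      rw [CfsgLib.Linear.upperUni_val, hz]; simp [Matrix.one_fin_two])
    have hx0 : x ≠ 0 := fun h => hs1 (h0 x h)
    have hy0 : y ≠ 0 := fun h => ht1 (h0 y h)
    obtain ⟨c, hc⟩ := FiniteField.isSquare_of_char_two (ringChar.eq F 2) (y / x)
    have hc0 : c ≠ 0 := fun h => by
      rw [h, mul_zero, div_eq_zero_iff] at hc
      exact hc.elim hy0 hx0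
    let g : Matrix.SpecialLinearGroup (Fin 2) F :=
      ⟨!![c, 0; 0, c⁻¹], by simp [Matrix.det_fin_two, hc0]⟩
    refine isConj_iff.2 ⟨g, mul_inv_eq_iff_eq_mul.2 ?_⟩
    refine Subtype.ext ?_
    simp only [Matrix.SpecialLinearGroup.coe_mul, CfsgLib.Linear.upperUni_val]
    rw [div_eq_iff hx0] at hc
    ext i j
    fin_cases i <;> fin_cases j <;> simp [g, Matrix.mul_apply, Fin.sum_univ_two]
    field_simp
    linear_combination -hc

variable {K : Type u} [Group K] [Finite K]

/-- Transport of the two facts along an isomorphism. -/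
theorem facts_of_equiv {H : Type*} [Group H] (e : K ≃* H) (S : Sylow 2 K)
    (h : ∃ P : Sylow 2 H, (∀ s ∈ (P : Subgroup H), s * s = 1) ∧
      ∀ s ∈ (P : Subgroup H), ∀ t ∈ (P : Subgroup H), s ≠ 1 → t ≠ 1 → IsConj s t) :
    (∀ s ∈ (S : Subgroup K), s * s = 1) ∧
      ∀ a ∈ (S : Subgroup K), ∀ b ∈ (S : Subgroup K), a ≠ 1 → b ≠ 1 → IsConj a b := by
  haveI : Fact (Nat.Prime 2) := ⟨Nat.prime_two⟩
  haveI : Finite H := Finite.of_equiv K e.toEquiv
  obtain ⟨P, hsq, hconj⟩ := h
  obtain ⟨g, hg⟩ := MulAction.exists_smul_eq H (S.mapSurjective (f := e.toMonoidHom) e.surjective) P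
  have hmem : ∀ a ∈ (S : Subgroup K), g * e a * g⁻¹ ∈ (P : Subgroup H) := fun a ha =>
    hg ▸ ⟨e a, ⟨a, ha, rfl⟩, rfl⟩
  refine ⟨fun a ha => e.injective ?_, fun a ha b hb ha1 hb1 => ?_⟩
  · have h1 := hsq _ (hmem a ha)
    rw [show g * e a * g⁻¹ * (g * e a * g⁻¹) = g * (e a * e a) * g⁻¹ by group,
      mul_inv_eq_one, mul_eq_left, ← map_mul] at h1
    rw [h1, map_one]
  · have hne : ∀ c : K, c ≠ 1 → g * e c * g⁻¹ ≠ 1 := fun c hc h => hc (by
      rw [conj_eq_one_iff] at h
      exact e.injective (h.trans (map_one e).symm))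
    obtain ⟨c, hc⟩ := isConj_iff.1 (hconj _ (hmem a ha) _ (hmem b hb) (hne a ha1) (hne b hb1))
    refine isConj_iff.2 ⟨e.symm (g⁻¹ * c * g), e.injective ?_⟩
    simp only [map_mul, map_inv, e.apply_symm_apply]
    calc g⁻¹ * c * g * e a * (g⁻¹ * c * g)⁻¹ = g⁻¹ * (c * (g * e a * g⁻¹) * c⁻¹) * g := by group
      _ = e b := by rw [hc]; group

/-- An abelian Sylow 2-subgroup of order four or eight has one class of involutions. -/
theorem facts_of_small [IsSimpleGroup K] (hna : ¬ IsMulCommutative K) (S : Sylow 2 K)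
    (hc : Nat.card (S : Subgroup K) = 4 ∨ Nat.card (S : Subgroup K) = 8)
    (hsq : ∀ s ∈ (S : Subgroup K), s * s = 1) :
    ∀ a ∈ (S : Subgroup K), ∀ b ∈ (S : Subgroup K), a ≠ 1 → b ≠ 1 → IsConj a b := by
  classical
  haveI : Fact (Nat.Prime 2) := ⟨Nat.prime_two⟩
  have hcomm : ∀ a ∈ (S : Subgroup K), ∀ b ∈ (S : Subgroup K), a * b = b * a := fun a ha b hb => by
    calc a * b = a * (a * b * (a * b)) * b := by rw [hsq _ (mul_mem ha hb), mul_one]
      _ = a * a * (b * a) * (b * b) := by group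
      _ = b * a := by rw [hsq a ha, hsq b hb, one_mul, mul_one]
  haveI : IsMulCommutative (S : Subgroup K) :=
    ⟨⟨fun a b => Subtype.ext (hcomm a a.2 b b.2)⟩⟩
  let N : Subgroup K := normalizer ((S : Subgroup K) : Set K)
  let I : Set K := {s | s ∈ (S : Subgroup K) ∧ s ≠ 1}
  have hI : I.ncard = Nat.card (S : Subgroup K) - 1 := by
    have h : I = ((S : Subgroup K) : Set K) \ {1} := by ext s; rfl
    rw [h, Set.ncard_sdiff_singleton_of_mem (one_mem (S : Subgroup K)), ← Nat.card_coe_set_eq]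
    rfl
  letI act : MulAction N I :=
    { smul := fun n s => ⟨(n : K) * s * (n : K)⁻¹, (mem_normalizer_iff.1 n.2 s).1 s.2.1,
        fun h => s.2.2 (conj_eq_one_iff.1 h)⟩
      one_smul := fun s => Subtype.ext (show (1 : K) * s * (1 : K)⁻¹ = s by group)
      mul_smul := fun m n s => Subtype.ext (show ((m : K) * n) * s * ((m : K) * n)⁻¹ =
        (m : K) * ((n : K) * s * (n : K)⁻¹) * (m : K)⁻¹ by group) }
  have hval : ∀ (n : N) (s : I), ((n • s : I) : K) = (n : K) * s * (n : K)⁻¹ := fun _ _ => rfl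
  have hSN : ((S : Subgroup K).subgroupOf N).index % 2 = 1 := Nat.two_dvd_ne_zero.1 fun h =>
    S.not_dvd_index (h.trans (relIndex_dvd_index_of_le le_normalizer))
  have horb : ∀ s : I, (MulAction.orbit N s).ncard % 2 = 1 ∧
      3 ≤ (MulAction.orbit N s).ncard := by
    intro s
    have hle : (S : Subgroup K).subgroupOf N ≤ MulAction.stabilizer N s := fun x hx =>
      MulAction.mem_stabilizer_iff.2 (Subtype.ext (by
        rw [hval, hcomm x (mem_subgroupOf.1 hx) s s.2.1, mul_inv_cancel_right]))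
    have h1 : (MulAction.orbit N s).ncard % 2 = 1 := by
      refine Nat.odd_iff.1 ((Nat.odd_iff.2 hSN).of_dvd_nat ?_)
      rw [← MulAction.index_stabilizer]
      exact index_dvd_of_le hle
    refine ⟨h1, ?_⟩
    obtain ⟨n, hn, hne⟩ := Inv53.exists_moves hna S s.2.1 s.2.2
    have h2 : (MulAction.orbit N s).ncard ≠ 1 := by
      intro e
      obtain ⟨w, hw⟩ := Set.ncard_eq_one.1 e
      have e1 : (⟨n, hn⟩ : N) • s = w := by
        simpa [hw] using MulAction.mem_orbit s (⟨n, hn⟩ : N)
      have e2 : s = w := by simpa [hw] using MulAction.mem_orbit_self (M := N) s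
      exact hne (congrArg Subtype.val (e1.trans e2.symm))
    omega
  intro a ha b hb ha1 hb1
  set x : I := ⟨a, ha, ha1⟩
  set y : I := ⟨b, hb, hb1⟩
  suffices hy : y ∈ MulAction.orbit N x by
    obtain ⟨n, hn⟩ := hy
    exact isConj_iff.2 ⟨n, congrArg Subtype.val hn⟩
  by_contra hy
  have hI' : Nat.card I = Nat.card (S : Subgroup K) - 1 := by rw [Nat.card_coe_set_eq, hI]
  have hd : Disjoint (MulAction.orbit N x) (MulAction.orbit N y) := by
    refine Set.disjoint_left.2 fun w hwx hwy => hy ?_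
    rw [← MulAction.orbit_eq_iff.2 hwx, MulAction.orbit_eq_iff.2 hwy]
    exact MulAction.mem_orbit_self y
  have hxy := horb x
  have hyy := horb y
  by_cases hall : MulAction.orbit N x ∪ MulAction.orbit N y = Set.univ
  · have := congrArg Set.ncard hall
    rw [Set.ncard_union_eq hd, Set.ncard_univ, hI'] at this
    omega
  · obtain ⟨w, hw⟩ := (Set.ne_univ_iff_exists_notMem _).1 hall
    rw [Set.mem_union, not_or] at hw
    have hww := horb w
    have hd2 : Disjoint (MulAction.orbit N x ∪ MulAction.orbit N y) (MulAction.orbit N w) := by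
      refine Set.disjoint_left.2 fun v hv hvw => ?_
      rcases hv with hv | hv
      · exact hw.1 (by rw [← MulAction.orbit_eq_iff.2 hv, MulAction.orbit_eq_iff.2 hvw]
                       exact MulAction.mem_orbit_self w)
      · exact hw.2 (by rw [← MulAction.orbit_eq_iff.2 hv, MulAction.orbit_eq_iff.2 hvw]
                       exact MulAction.mem_orbit_self w)
    have := Set.ncard_le_ncard (Set.subset_univ
      (MulAction.orbit N x ∪ MulAction.orbit N y ∪ MulAction.orbit N w))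
    rw [Set.ncard_union_eq hd2, Set.ncard_union_eq hd, Set.ncard_univ, hI'] at this
    omega

end CfsgLib.CentralInter88
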