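import Cfsg.Agent.CentralInter88.Layer
import Cfsg.Agent.CentralInter88.SE
import Cfsg.Agent.CentralInter88.WalterFacts

/-!
# Central Sylow 2-intersections: the action on a component

`Ctx S L`: `O(G) = 1`, `S'` is not cyclic, `L` is a component and the smaller simple groups with
central intersections and non-abelian Sylow 2-subgroups have centralizers of involutions inside
Sylow normalizers.  Then `N(S ∩ L)` is strongly embedded modulo the centre of `L`, so `S ∩ L` is
transitive on the other Sylow subgroups of `L` and `S = (S ∩ L) C_S(L)` with `C_S(L) ≤ Z(S)`.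
-/

set_option autoImplicit false
set_option linter.style.haveILetI false
set_option linter.unusedSectionVars false

open Subgroup
open scoped commutatorElement

namespace CfsgLib.CentralInter88

universe u

/-- Centralizers of involutions normalize a non-abelian Sylow 2-subgroup containing them. -/
def Strong (K : Type*) [Group K] : Prop :=
  ∀ S : Sylow 2 K, ¬ IsMulCommutative (S : Subgroup K) → ∀ z ∈ (S : Subgroup K), orderOf z = 2 →
    centralizer ({z} : Set K) ≤ normalizer ((S : Subgroup K) : Set K)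

/-- The result for simple groups of order less than `n`. -/
def Below (n : ℕ) : Prop :=
  ∀ (K : Type u) [Group K] [Finite K], IsSimpleGroup K → ¬ IsMulCommutative K → CI K →
    Nat.card K < n → Strong K

variable {G : Type u} [Group G] [Finite G]

/-- The situation. -/
structure Ctx (S : Sylow 2 G) (L : Subgroup G) : Prop where
  ci : CI G
  good : Good (S : Subgroup G)
  core : Cfsg.oddCore G = ⊥
  comp : Cfsg.IsComponent L
  split : CfsgLib.BenderUse.SplitHyp.{u}
  facts : AbelianFacts.{u}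
  below : ∀ n, Nat.card (L ⧸ Subgroup.center L) < n → Below.{u} n

namespace Ctx

variable {S : Sylow 2 G} {L : Subgroup G} (h : Ctx S L)
include h

theorem normal : L.Normal := h.ci.component_normal h.good h.comp

theorem not_normal : ¬ (S : Subgroup G).Normal := fun hn =>
  component_not_le h.comp S (normalizer_eq_top_iff.2 hn ▸ le_top)

theorem center_mem {z : L} (hz : z ∈ Subgroup.center L) (T : Sylow 2 G) :
    (z : G) ∈ Cfsg.pCore 2 G ∧ (z : G) ∈ (T : Subgroup G) := by
  haveI := h.normal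
  set Z := (Subgroup.center L).map L.subtype with hZd
  haveI : Z.Normal := inferInstance
  have hp : IsPGroup 2 Z := isPGroup_of_abelian_normal (by
    rintro _ ⟨a, ha, rfl⟩ _ ⟨b, -, rfl⟩
    exact congrArg Subtype.val (mem_center_iff.1 ha b).symm) h.core
  have hle : Z ≤ Cfsg.pCore 2 G := CfsgLib.Components.le_pCore hp
  exact ⟨hle ⟨z, hz, rfl⟩, le_sylow_of_normal hp T ⟨z, hz, rfl⟩⟩

theorem center_central {z : L} (hz : z ∈ Subgroup.center L) {s : G}
    (hs : s ∈ (S : Subgroup G)) : s * z = z * s :=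
  h.ci.pCore_central h.not_normal (h.center_mem hz S).1 hs

theorem isPGroup_center : IsPGroup 2 (Subgroup.center L) := by
  obtain ⟨Q, hQ⟩ := Cfsg.Agent.S0542.result (H := L) 2 h.comp.1 S
  exact Q.2.to_le fun z hz => hQ ▸ mem_subgroupOf.2 (h.center_mem hz S).2

theorem simple : IsSimpleGroup (L ⧸ Subgroup.center L) := h.comp.2.2

theorem not_comm : ¬ IsMulCommutative (L ⧸ Subgroup.center L) := fun hc => by
  haveI := h.simple
  haveI := isSolvable_center L
  haveI : Group.IsSolvable (L ⧸ Subgroup.center L) :=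
    IsSimpleGroup.comm_iff_isSolvable.1 fun a b => hc.is_comm.comm a b
  exact CfsgLib.Components.IsComponent.not_isSolvable h.comp
    (Group.isSolvable_of_ker_le_range (Subgroup.center L).subtype
      (QuotientGroup.mk' (Subgroup.center L)) (by rw [QuotientGroup.ker_mk', range_subtype]))

theorem ci_quot : CI (L ⧸ Subgroup.center L) :=
  (h.ci.of_injective L.subtype L.subtype_injective).quotient (Subgroup.center L) h.isPGroup_center

/-- A Sylow subgroup of the central quotient with all that is needed about it. -/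
theorem exists_quot_sylow : ∃ P : Sylow 2 (L ⧸ Subgroup.center L),
    (∀ l : L, (QuotientGroup.mk' (Subgroup.center L) l ∈ (P : Subgroup _) ↔
      (l : G) ∈ (S : Subgroup G))) ∧
    (∀ l : L, (QuotientGroup.mk' (Subgroup.center L) l ∈
        normalizer ((P : Subgroup (L ⧸ Subgroup.center L)) : Set (L ⧸ Subgroup.center L)) ↔
      (l : G) ∈ normalizer (((S : Subgroup G) ⊓ L : Subgroup G) : Set G))) ∧
    Cfsg.IsStronglyEmbedded
      (normalizer ((P : Subgroup (L ⧸ Subgroup.center L)) : Set (L ⧸ Subgroup.center L))) := by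
  classical
  haveI : Fact (Nat.Prime 2) := ⟨Nat.prime_two⟩
  haveI := h.normal
  haveI hsimple := h.simple
  obtain ⟨Q, hQ⟩ := Cfsg.Agent.S0542.result (H := L) 2 h.comp.1 S
  set π := QuotientGroup.mk' (Subgroup.center L) with hπ
  let P : Sylow 2 (L ⧸ Subgroup.center L) := Q.mapSurjective (QuotientGroup.mk'_surjective _)
  have hmem : ∀ l : L, π l ∈ (P : Subgroup _) ↔ (l : G) ∈ (S : Subgroup G) := by
    intro l
    constructor
    · rintro ⟨q, hq, hql⟩
      rw [SetLike.mem_coe, hQ, mem_subgroupOf] at hq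
      have hz : q⁻¹ * l ∈ Subgroup.center L := (QuotientGroup.eq).1 hql
      rw [show (l : G) = q * ((q⁻¹ * l : L) : G) by push_cast; group]
      exact mul_mem hq (h.center_mem hz S).2
    · exact fun hl => ⟨l, by rw [SetLike.mem_coe, hQ]; exact hl, rfl⟩
  have hnorm : ∀ l : L, (π l ∈ normalizer ((P : Subgroup (L ⧸ Subgroup.center L)) : Set _) ↔
      (l : G) ∈ normalizer (((S : Subgroup G) ⊓ L : Subgroup G) : Set G)) := by
    intro l
    constructor
    · intro hl
      refine mem_normalizer_fintype fun x hx => ⟨?_, h.normal.conj_mem x hx.2 l⟩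
      have := (mem_normalizer_iff.1 hl (π ⟨x, hx.2⟩)).1 ((hmem _).2 hx.1)
      rw [← map_inv, ← map_mul, ← map_mul, hmem] at this
      exact this
    · intro hl
      refine mem_normalizer_fintype fun x hx => ?_
      obtain ⟨q, rfl⟩ := QuotientGroup.mk'_surjective (Subgroup.center L) x
      rw [SetLike.mem_coe] at hx ⊢
      rw [← map_inv, ← map_mul, ← map_mul, hmem]
      exact ((mem_normalizer_iff.1 hl q).1 ⟨(hmem q).1 hx, q.2⟩).1
  refine ⟨P, hmem, hnorm, h.ci_quot.isStronglyEmbedded P ?_ ?_ ?_⟩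
  · by_cases hab : IsMulCommutative (P : Subgroup (L ⧸ Subgroup.center L))
    swap
    · exact fun z hz ho => h.below _ (Nat.lt_succ_self _) _ hsimple h.not_comm h.ci_quot
        (Nat.lt_succ_self _) P hab z hz ho
    obtain ⟨hsq, hconj⟩ := h.facts _ hsimple h.not_comm P hab
    -- some element of `S ∩ L` is not central in `S`
    obtain ⟨x, hxS, hxnc⟩ : ∃ x : L, (x : G) ∈ (S : Subgroup G) ∧ NC (S : Subgroup G) x := by
      by_contra hno
      push Not at hno
      refine h.ci.component_not_central h.good h.comp fun x hx y hy => ?_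
      have := hno ⟨x, hx.2⟩ hx.1
      simp only [NC, not_and, not_exists, not_not] at this
      exact this hx.1 y hy
    have hx1 : π x ≠ 1 := fun h1 => by
      obtain ⟨s, hs, hne⟩ := hxnc.2
      exact hne (h.center_central ((QuotientGroup.eq_one_iff x).1 h1) hs)
    have hCx : centralizer ({π x} : Set (L ⧸ Subgroup.center L)) ≤
        normalizer ((P : Subgroup (L ⧸ Subgroup.center L)) : Set _) := by
      intro c hc
      obtain ⟨g, rfl⟩ := QuotientGroup.mk'_surjective (Subgroup.center L) c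
      have hcomm := mem_centralizer_singleton_iff.1 hc
      have hz : x⁻¹ * (g⁻¹ * x * g) ∈ Subgroup.center L := by
        rw [← QuotientGroup.eq_one_iff]
        show π _ = 1
        simp only [map_mul, map_inv]
        rw [show (π x)⁻¹ * ((π g)⁻¹ * π x * π g) = (π x)⁻¹ * (π g)⁻¹ * (π x * π g) by group,
          ← show π g * π x = π x * π g from hcomm]
        group
      have hgS : (g : G) ∈ normalizer ((S : Subgroup G) : Set G) := h.ci.mem_normalizer hxnc (by
        rw [show (g : G)⁻¹ * x * g = x * ((x⁻¹ * (g⁻¹ * x * g) : L) : G) by push_cast; group]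
        exact mul_mem hxS (h.center_mem hz S).2)
      exact (hnorm g).2 (mem_normalizer_fintype fun q hq =>
        ⟨(mem_normalizer_iff.1 hgS q).1 hq.1, h.normal.conj_mem q hq.2 g⟩)
    intro z hz ho
    obtain ⟨c, hc⟩ := isConj_iff.1 (hconj (π x) ((hmem x).2 hxS) z hz hx1
      (CfsgLib.Small.ne_one_of_orderOf_two ho))
    exact hc ▸ h.ci_quot.centralizer_le_of_conj ((hmem x).2 hxS) hCx (hc.symm ▸ hz)
  · intro htop
    refine component_not_le h.comp S ?_
    haveI : Group.IsSolvable (L ⧸ Subgroup.center L) := by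
      haveI := normalizer_eq_top_iff.1 htop
      rcases IsSimpleGroup.eq_bot_or_eq_top_of_normal (P : Subgroup (L ⧸ Subgroup.center L))
        inferInstance with hP | hP
      · refine Cfsg.Agent.S0205.result ?_
        rw [Nat.odd_iff, ← Nat.two_dvd_ne_zero, ← index_bot, ← hP]
        exact P.not_dvd_index
      · haveI := (IsPGroup.of_equiv P.2 ((MulEquiv.subgroupCongr hP).trans Subgroup.topEquiv)).isNilpotent
        infer_instance
    exact absurd ⟨⟨IsSimpleGroup.comm_iff_isSolvable.2 inferInstance⟩⟩ h.not_comm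
  · by_contra hodd
    exact h.not_comm ⟨⟨IsSimpleGroup.comm_iff_isSolvable.2
      (Cfsg.Agent.S0205.result (Nat.odd_iff.2 (Nat.two_dvd_ne_zero.1 hodd)))⟩⟩

/-- The intersections of Sylow subgroups with `L` other than `S ∩ L` are permuted transitively by
`S ∩ L`. -/
theorem transitive {l₁ l₂ : G} (h₁L : l₁ ∈ L) (h₂L : l₂ ∈ L)
    (h₁ : l₁ ∉ normalizer (((S : Subgroup G) ⊓ L : Subgroup G) : Set G))
    (h₂ : l₂ ∉ normalizer (((S : Subgroup G) ⊓ L : Subgroup G) : Set G)) :
    ∃ u ∈ (S : Subgroup G) ⊓ L,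
      l₂⁻¹ * (u * l₁) ∈ normalizer (((S : Subgroup G) ⊓ L : Subgroup G) : Set G) := by
  haveI := h.simple
  obtain ⟨P, hmem, hnorm, hSE⟩ := h.exists_quot_sylow
  set π := QuotientGroup.mk' (Subgroup.center L)
  obtain ⟨s, hs, hst⟩ := exists_mem_conj hSE h.split
    (g₁ := π ⟨l₁, h₁L⟩) (g₂ := π ⟨l₂, h₂L⟩) (fun hc => h₁ ((hnorm _).1 hc))
    (fun hc => h₂ ((hnorm _).1 hc))
  obtain ⟨u, rfl⟩ := QuotientGroup.mk'_surjective (Subgroup.center L) s
  refine ⟨u, ⟨(hmem u).1 hs, u.2⟩, ?_⟩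
  rw [← map_inv, ← map_mul, ← map_mul, hnorm] at hst
  exact hst

/-- An element of `S` fixing one of the other intersections is central in `S`. -/
theorem central_of_fix {x l : G} (hx : x ∈ (S : Subgroup G)) (hl : l ∈ L)
    (hl' : l ∉ normalizer (((S : Subgroup G) ⊓ L : Subgroup G) : Set G))
    (hfix : l⁻¹ * x * l ∈ normalizer (((S : Subgroup G) ⊓ L : Subgroup G) : Set G)) {s : G}
    (hs : s ∈ (S : Subgroup G)) : s * x = x * s := by
  classical
  haveI : Fact (Nat.Prime 2) := ⟨Nat.prime_two⟩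
  haveI := h.normal
  by_contra hne
  -- `⟨l⁻¹ x l⟩ (S ∩ L)` lies in a Sylow subgroup
  obtain ⟨k, hk⟩ := S.2 ⟨x, hx⟩
  have hk' : (l⁻¹ * x * l) ^ 2 ^ k = 1 := by
    have h1 := conj_pow (a := l⁻¹) (b := x) (i := 2 ^ k)
    rw [inv_inv] at h1
    rw [h1, show x ^ 2 ^ k = 1 from congrArg Subtype.val hk, mul_one, inv_mul_cancel]
  have hp : IsPGroup 2 (zpowers (l⁻¹ * x * l)) := IsPGroup.of_card_dvd_pow (n := k) (by
    rw [Nat.card_zpowers]; exact orderOf_dvd_of_pow_eq_one hk')
  obtain ⟨T, hT⟩ := ((S.2.to_le inf_le_left : IsPGroup 2 ((S : Subgroup G) ⊓ L : Subgroup G))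
    |>.to_sup_of_normal_left' hp (zpowers_le.2 hfix)).exists_le_sylow
  have hxT : x ∈ (l • T : Sylow 2 G) := ⟨l⁻¹ * x * l,
    hT (le_sup_right (a := (S : Subgroup G) ⊓ L) (mem_zpowers _)), by simp [mul_assoc]⟩
  have heq := h.ci.eq_of_nc ⟨hx, s, hs, hne⟩ hxT
  refine hl' (mem_normalizer_fintype fun q hq => ⟨?_, h.normal.conj_mem q hq.2 l⟩)
  rw [← heq]
  exact ⟨q, hT (le_sup_left (b := zpowers (l⁻¹ * x * l)) hq), rfl⟩

theorem exists_outside :
    ∃ l ∈ L, l ∉ normalizer (((S : Subgroup G) ⊓ L : Subgroup G) : Set G) := by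
  obtain ⟨P, hmem, hnorm, hSE⟩ := h.exists_quot_sylow
  obtain ⟨c, -, hc⟩ := SetLike.exists_of_lt (lt_top_iff_ne_top.2 hSE.1)
  obtain ⟨l, rfl⟩ := QuotientGroup.mk'_surjective (Subgroup.center L) c
  exact ⟨l, l.2, fun hl => hc ((hnorm l).2 hl)⟩

/-- An element centralizing `S ∩ L` and fixing one of the other intersections centralizes `L`. -/
theorem commute_of_fix {x l₀ : G} (hxA : ∀ a ∈ (S : Subgroup G) ⊓ L, Commute x a) (hl₀ : l₀ ∈ L)
    (hl₀' : l₀ ∉ normalizer (((S : Subgroup G) ⊓ L : Subgroup G) : Set G))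
    (hfix : l₀⁻¹ * x * l₀ ∈ normalizer (((S : Subgroup G) ⊓ L : Subgroup G) : Set G)) :
    ∀ l ∈ L, Commute x l := by
  haveI := h.normal
  set N := normalizer (((S : Subgroup G) ⊓ L : Subgroup G) : Set G) with hN
  have hA : (S : Subgroup G) ⊓ L ≤ N := le_normalizer
  have hall : ∀ l ∈ L, l⁻¹ * x * l ∈ N := by
    intro l hl
    by_cases hlN : l ∈ N
    · refine mul_mem (mul_mem (inv_mem hlN) (mem_normalizer_fintype fun a ha => ?_)) hlN
      rw [SetLike.mem_coe] at ha ⊢
      rwa [(hxA a ha).eq, mul_inv_cancel_right]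
    obtain ⟨u, hu, hun⟩ := h.transitive hl₀ hl hl₀' hlN
    have := mul_mem (mul_mem hun hfix) (inv_mem hun)
    rwa [show l⁻¹ * (u * l₀) * (l₀⁻¹ * x * l₀) * (l⁻¹ * (u * l₀))⁻¹ = l⁻¹ * (u * x * u⁻¹) * l by
      group, ← (hxA u hu).eq, mul_inv_cancel_right] at this
  -- the commutators lie in the normal subgroup of elements fixing everything
  let N₀ : Subgroup L :=
    { carrier := {m | ∀ l ∈ L, l⁻¹ * (m : G) * l ∈ N}
      one_mem' := fun l _ => by simp [one_mem]
      mul_mem' := fun {a b} ha hb l hl => by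
        have := mul_mem (ha l hl) (hb l hl)
        rwa [show l⁻¹ * (a : G) * l * (l⁻¹ * b * l) = l⁻¹ * ((a : G) * b) * l by group] at this
      inv_mem' := fun {a} ha l hl => by
        have := inv_mem (ha l hl)
        rwa [show (l⁻¹ * (a : G) * l)⁻¹ = l⁻¹ * (a : G)⁻¹ * l by group] at this }
  haveI hN₀ : N₀.Normal := ⟨fun m hm g l hl => by
    have := hm ((g : G)⁻¹ * l) (mul_mem (inv_mem g.2) hl)
    show l⁻¹ * ((g : G) * m * (g : G)⁻¹) * l ∈ N
    rwa [show l⁻¹ * ((g : G) * m * (g : G)⁻¹) * l = ((g : G)⁻¹ * l)⁻¹ * m * ((g : G)⁻¹ * l) by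
      group]⟩
  have hcen : N₀ ≤ Subgroup.center L := by
    rcases CfsgLib.Components.IsQuasisimple.normal_eq_top_or_le_center h.comp.2 N₀ with e | e
    · exfalso
      refine hl₀' ?_
      have := (e.symm ▸ mem_top _ : (⟨l₀, hl₀⟩ : L) ∈ N₀) 1 (one_mem L)
      simpa using this
    · exact e
  refine commute_of_perfect (CfsgLib.Components.IsComponent.commutator_eq_self h.comp)
    (fun a ha m hm => ?_) fun a ha => h.normal.conj_mem a ha x
  have hmem : x * a * x⁻¹ * a⁻¹ ∈ L := mul_mem (h.normal.conj_mem a ha x) (inv_mem ha)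
  have hN₀mem : (⟨_, hmem⟩ : L) ∈ N₀ := by
    intro l hl
    have h1 := hall l hl
    have h2 := hall (a⁻¹ * l) (mul_mem (inv_mem ha) hl)
    have h3 := mul_mem h1 (inv_mem h2)
    show l⁻¹ * (x * a * x⁻¹ * a⁻¹) * l ∈ N
    rwa [show l⁻¹ * x * l * ((a⁻¹ * l)⁻¹ * x * (a⁻¹ * l))⁻¹ =
      l⁻¹ * (x * a * x⁻¹ * a⁻¹) * l by group] at h3
  exact (congrArg Subtype.val (mem_center_iff.1 (hcen hN₀mem) ⟨m, hm⟩)).symm

/-- `S = (S ∩ L) C_S(L)`. -/
theorem exists_split {s : G} (hs : s ∈ (S : Subgroup G)) :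
    ∃ e ∈ (S : Subgroup G) ⊓ L, e⁻¹ * s ∈ (S : Subgroup G) ∧
      (∀ l ∈ L, Commute (e⁻¹ * s) l) ∧ ∀ t ∈ (S : Subgroup G), t * (e⁻¹ * s) = e⁻¹ * s * t := by
  haveI := h.normal
  obtain ⟨l₀, hl₀, hl₀'⟩ := h.exists_outside
  set N := normalizer (((S : Subgroup G) ⊓ L : Subgroup G) : Set G) with hN
  have hsN : s ∈ N := mem_normalizer_fintype fun a ha =>
    ⟨Subgroup.mul_mem _ (Subgroup.mul_mem _ hs ha.1) (Subgroup.inv_mem _ hs), h.normal.conj_mem a ha.2 s⟩
  obtain ⟨e, he, hen⟩ := h.transitive hl₀ (h.normal.conj_mem l₀ hl₀ s) hl₀' (fun hc => hl₀' (by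
    have := mul_mem (mul_mem (inv_mem hsN) hc) hsN
    rwa [show s⁻¹ * (s * l₀ * s⁻¹) * s = l₀ by group] at this))
  have hx : e⁻¹ * s ∈ (S : Subgroup G) := mul_mem (inv_mem he.1) hs
  have hfix : l₀⁻¹ * (e⁻¹ * s) * l₀ ∈ N := by
    have := mul_mem (inv_mem hen) hsN
    rwa [show ((s * l₀ * s⁻¹)⁻¹ * (e * l₀))⁻¹ * s = l₀⁻¹ * (e⁻¹ * s) * l₀ by group] at this
  have hcen : ∀ t ∈ (S : Subgroup G), t * (e⁻¹ * s) = e⁻¹ * s * t := fun t ht =>
    h.central_of_fix hx hl₀ hl₀' hfix ht
  exact ⟨e, he, hx, h.commute_of_fix (fun a ha => (hcen a ha.1).symm) hl₀ hl₀' hfix, hcen⟩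

/-- An element of `L` normalizing `S ∩ L` normalizes `S`. -/
theorem mem_normalizer {n : G} (hn : n ∈ L)
    (hnN : n ∈ normalizer (((S : Subgroup G) ⊓ L : Subgroup G) : Set G)) :
    n ∈ normalizer ((S : Subgroup G) : Set G) := by
  refine mem_normalizer_fintype fun s hs => ?_
  obtain ⟨e, he, hx, hc, -⟩ := h.exists_split hs
  rw [show n * s * n⁻¹ = (n * e * n⁻¹) * (n * (e⁻¹ * s) * n⁻¹) by group, ← (hc n hn).eq,
    mul_inv_cancel_right]
  exact mul_mem ((mem_normalizer_iff.1 hnN e).1 he).1 hx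

/-- An element of `S ∩ L` fixed modulo the centre by the normalizer is central in `L`. -/
theorem mem_center_of_fixed {e : L} (he : (e : G) ∈ (S : Subgroup G))
    (he2 : e * e ∈ Subgroup.center L)
    (hfix : ∀ n : L, (n : G) ∈ normalizer ((S : Subgroup G) : Set G) →
      n * e * n⁻¹ * e⁻¹ ∈ Subgroup.center L) : e ∈ Subgroup.center L := by
  haveI := h.simple
  obtain ⟨P, hmem, hnorm, hSE⟩ := h.exists_quot_sylow
  by_contra hne
  have ho : orderOf (QuotientGroup.mk' (Subgroup.center L) e) = 2 := by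
    refine CfsgLib.Small.orderOf_eq_two_iff_sq.2 ⟨fun h1 => hne ((QuotientGroup.eq_one_iff e).1 h1), ?_⟩
    rw [← map_mul]
    exact (QuotientGroup.eq_one_iff _).2 he2
  obtain ⟨c, hc, hce⟩ := not_fixed hSE ((hmem e).2 he) ho
  obtain ⟨n, rfl⟩ := QuotientGroup.mk'_surjective (Subgroup.center L) c
  refine hce ?_
  rw [← map_inv, ← map_mul, ← map_mul]
  refine (QuotientGroup.eq).2 ?_
  have := hfix n (h.mem_normalizer n.2 ((hnorm n).1 hc))
  rw [show (n * e * n⁻¹)⁻¹ * e = e⁻¹ * (n * e * n⁻¹ * e⁻¹)⁻¹ * e by group]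
  have hz := inv_mem this
  rwa [mul_assoc, ← mem_center_iff.1 hz e, inv_mul_cancel_left]

/-- `N(S) ∩ L` is transitive on the involutions modulo the centre. -/
theorem exists_conj_mod {a b : L} (ha : (a : G) ∈ (S : Subgroup G))
    (hb : (b : G) ∈ (S : Subgroup G)) (ha1 : a ∉ Subgroup.center L) (hb1 : b ∉ Subgroup.center L)
    (ha2 : a * a ∈ Subgroup.center L) (hb2 : b * b ∈ Subgroup.center L) :
    ∃ n : L, (n : G) ∈ normalizer ((S : Subgroup G) : Set G) ∧
      (n * a * n⁻¹)⁻¹ * b ∈ Subgroup.center L := by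
  haveI := h.simple
  obtain ⟨P, hmem, hnorm, hSE⟩ := h.exists_quot_sylow
  have hord : ∀ c : L, c ∉ Subgroup.center L → c * c ∈ Subgroup.center L →
      orderOf (QuotientGroup.mk' (Subgroup.center L) c) = 2 := fun c h1 h2 => by
    refine CfsgLib.Small.orderOf_eq_two_iff_sq.2 ⟨fun he => h1 ((QuotientGroup.eq_one_iff c).1 he), ?_⟩
    rw [← map_mul]
    exact (QuotientGroup.eq_one_iff _).2 h2
  obtain ⟨c, hc, hce⟩ := exists_conj_invol hSE ((hmem a).2 ha) ((hmem b).2 hb)
    (hord a ha1 ha2) (hord b hb1 hb2)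
  obtain ⟨n, rfl⟩ := QuotientGroup.mk'_surjective (Subgroup.center L) c
  refine ⟨n, h.mem_normalizer n.2 ((hnorm n).1 hc), ?_⟩
  rw [← map_inv, ← map_mul, ← map_mul] at hce
  exact (QuotientGroup.eq).1 hce

end Ctx

end CfsgLib.CentralInter88
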