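import Cfsg.Agent.CentralInter88.Basic
import Cfsg.Agent.Coprime.Generation
import Cfsg.Agent.Coprime.ActionHom
import Cfsg.Agent.TwoGroupsQ.UniqueInvolution
import Cfsg.Agent.SEmbed.Elementary

/-!
# Central Sylow 2-intersections: `S` centralizes the odd subgroups it normalizes

A minimal exception `Q` gives a 2-group `S/C_S(Q)` without four groups, so cyclic or quaternion,
and then `S` is abelian or has a cyclic derived subgroup.
-/

set_option autoImplicit false
set_option linter.style.haveILetI false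
set_option linter.unusedSectionVars false

open Subgroup SemidirectProduct
open scoped commutatorElement

namespace CfsgLib.CentralInter88

universe u v

/-- A 2-group of automorphisms without fixed point freedom: if two distinct commuting involutory
automorphisms and their product fix only points of `W`, then `W` is everything. -/
theorem eq_top_of_four {Q : Type u} [Group Q] [Finite Q] (hQ : Odd (Nat.card Q))
    (A : Subgroup (MulAut Q)) (hA : IsPGroup 2 A) {a b : A} (ha : orderOf a = 2)
    (hb : orderOf b = 2) (hab : a ≠ b) (hc : Commute a b) (W : Subgroup Q)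
    (hW : ∀ c : A, c ≠ 1 → ∀ q : Q, (c : MulAut Q) q = q → q ∈ W) : W = ⊤ := by
  haveI : Fact (Nat.Prime 2) := ⟨Nat.prime_two⟩
  haveI := CfsgLib.Coprime.finite_semidirectProduct A.subtype
  let i : Q →* Q ⋊[A.subtype] A := SemidirectProduct.inl
  let r : A →* Q ⋊[A.subtype] A := SemidirectProduct.inr
  have hr : Function.Injective r := SemidirectProduct.inr_injective
  set V : Subgroup (Q ⋊[A.subtype] A) := Subgroup.closure {r a, r b} with hV
  have hV4 : CfsgLib.SEmbed.IsFour V := CfsgLib.SEmbed.isFour_closure_pair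
    (by rw [orderOf_injective r hr]; exact ha) (by rw [orderOf_injective r hr]; exact hb)
    (fun h => hab (hr h)) (hc.map r)
  haveI := hV4.isMulCommutative
  have hVr : V ≤ r.range := (closure_le _).2 (by
    intro x hx
    rcases hx with rfl | rfl
    exacts [⟨a, rfl⟩, ⟨b, rfl⟩])
  have hle := CfsgLib.Coprime.le_of_forall_inf_centralizer_le (G := i.range) (A := V)
    (W := W.map i) hV4.not_isCyclic
    (hVr.trans (CfsgLib.Coprime.range_inr_le_normalizer_range_inl A.subtype))
    (by
      rw [show Nat.card V = 2 ^ 2 by rw [hV4.1]; norm_num, CfsgLib.Coprime.card_range_inl]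
      exact (Nat.coprime_two_left.2 hQ).pow_left 2) ?_
  · refine eq_top_iff.2 fun q _ => ?_
    obtain ⟨w, hw, hwq⟩ := hle ⟨q, rfl⟩
    rw [← SemidirectProduct.inl_injective hwq]
    exact hw
  · rintro x hxV hx1 _ ⟨⟨q, rfl⟩, hq⟩
    obtain ⟨c, rfl⟩ := hVr hxV
    refine mem_map_of_mem i (hW c (fun h => hx1 (by rw [h, map_one])) q ?_)
    have h := mem_centralizer_singleton_iff.1 hq
    refine SemidirectProduct.inl_injective (φ := A.subtype) ?_
    show i ((A.subtype c) q) = i q
    rw [show i ((A.subtype c) q) = r c * i q * r c⁻¹ from SemidirectProduct.inl_aut c q,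
      ← h, mul_assoc, ← map_mul, mul_inv_cancel, map_one, mul_one]

variable {G : Type u} [Group G] [Finite G]

/-- A group with a quaternion quotient by a central subgroup has cyclic derived subgroup. -/
theorem not_good_of_quaternion {P : Type u} [Group P] {m : ℕ} {A : Type v} [Group A]
    (θ : P →* A) (hθ : Function.Surjective θ) (hker : θ.ker ≤ Subgroup.center P)
    (hm : m ≠ 0) (e : A ≃* QuaternionGroup m) : ¬ Good P := by
  haveI : NeZero (2 * m) := ⟨by omega⟩
  obtain ⟨x, hx⟩ := hθ (e.symm (QuaternionGroup.a 1))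
  obtain ⟨y, hy⟩ := hθ (e.symm (QuaternionGroup.xa 0))
  have hcen : ∀ z : P, θ z = 1 → ∀ p, Commute p z := fun z hz p =>
    mem_center_iff.1 (hker (MonoidHom.mem_ker.2 hz)) p
  obtain ⟨k, hk, hk1⟩ : ∃ k, y * x * y⁻¹ = x⁻¹ * k ∧ θ k = 1 := by
    refine ⟨x * (y * x * y⁻¹), by group, e.injective ?_⟩
    simp only [map_mul, map_inv, hx, hy, e.apply_symm_apply, map_one]
    rw [← mul_assoc, ← mul_assoc, mul_inv_eq_one, QuaternionGroup.a_mul_xa,
      QuaternionGroup.xa_mul_a]
    simp
  set c := x * x * k⁻¹ with hcd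
  have hki : ∀ p, Commute p k⁻¹ := fun p => (hcen k hk1 p).inv_right
  have hxy : x * y * x⁻¹ * y⁻¹ = c := by
    rw [show x * y * x⁻¹ * y⁻¹ = x * (y * x * y⁻¹)⁻¹ by group, hk, mul_inv_rev, inv_inv, hcd,
      ← (hki x).eq, ← mul_assoc]
  have hxc : Commute x c := ((Commute.refl x).mul_right (Commute.refl x)).mul_right (hki x)
  have hyc : y * c * y⁻¹ = c⁻¹ := by
    have h1 : y * c * y⁻¹ = (y * x * y⁻¹) * (y * x * y⁻¹) * (y * k⁻¹ * y⁻¹) := by
      rw [hcd]; group
    rw [h1, hk, show y * k⁻¹ * y⁻¹ = k⁻¹ by rw [(hki y).eq, mul_inv_cancel_right]]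
    calc x⁻¹ * k * (x⁻¹ * k) * k⁻¹ = x⁻¹ * (k * x⁻¹) := by group
      _ = x⁻¹ * (x⁻¹ * k) := by rw [(hcen k hk1 x⁻¹).eq]
      _ = x⁻¹ * x⁻¹ * k := by rw [mul_assoc]
      _ = k * (x⁻¹ * x⁻¹) := by rw [(hcen k hk1 (x⁻¹ * x⁻¹)).eq]
      _ = c⁻¹ := by rw [hcd]; group
  have hgen : ∀ p : P, ∃ i : ℕ, (∃ z, θ z = 1 ∧ p = x ^ i * z) ∨
      ∃ z, θ z = 1 ∧ p = y * x ^ i * z := by
    intro p
    rcases hv : e (θ p) with i | i <;> refine ⟨i.val, ?_⟩
    · refine Or.inl ⟨(x ^ i.val)⁻¹ * p, e.injective ?_, by group⟩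
      simp only [map_mul, map_inv, map_pow, map_one, hx, e.apply_symm_apply, hv,
        QuaternionGroup.a_one_pow, ZMod.natCast_zmod_val, inv_mul_cancel]
    · refine Or.inr ⟨(y * x ^ i.val)⁻¹ * p, e.injective ?_, by group⟩
      simp only [map_mul, map_inv, map_pow, map_one, hx, hy, e.apply_symm_apply, hv,
        QuaternionGroup.a_one_pow, ZMod.natCast_zmod_val, QuaternionGroup.xa_mul_a, zero_add,
        inv_mul_cancel]
  set C := Subgroup.zpowers c with hC
  have hconj : ∀ p : P, p * c * p⁻¹ ∈ C := by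
    intro p
    obtain ⟨i, ⟨z, hz, rfl⟩ | ⟨z, hz, rfl⟩⟩ := hgen p
    · rw [((((hxc.pow_left i).mul_left ((hcen z hz c).symm)))).eq, mul_inv_cancel_right]
      exact mem_zpowers c
    · rw [show y * x ^ i * z * c * (y * x ^ i * z)⁻¹ = y * ((x ^ i * z) * c * (x ^ i * z)⁻¹) * y⁻¹ by
        group, (((hxc.pow_left i).mul_left ((hcen z hz c).symm))).eq, mul_inv_cancel_right, hyc]
      exact inv_mem (mem_zpowers c)
  haveI : C.Normal := ⟨fun a ha p => by
    obtain ⟨j, rfl⟩ := ha
    show p * c ^ j * p⁻¹ ∈ C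
    rw [← conj_zpow]
    exact zpow_mem (hconj p) j⟩
  let π := QuotientGroup.mk' C
  have hxy' : Commute (π x) (π y) := by
    refine commutatorElement_eq_one_iff_mul_comm.1 ?_
    rw [← map_commutatorElement, commutatorElement_def, hxy]
    exact (QuotientGroup.eq_one_iff c).2 (mem_zpowers c)
  have hz : ∀ z, θ z = 1 → ∀ p, Commute (π p) (π z) := fun z hz p => (hcen z hz p).map π
  have hall : ∀ p q : P, Commute (π p) (π q) := by
    have h0 : ∀ p : P, Commute (π x) (π p) ∧ Commute (π y) (π p) := by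
      intro p
      obtain ⟨i, ⟨z, hz', rfl⟩ | ⟨z, hz', rfl⟩⟩ := hgen p
      · exact ⟨by rw [map_mul, map_pow]; exact ((Commute.refl _).pow_right i).mul_right (hz z hz' x),
          by rw [map_mul, map_pow]; exact (hxy'.symm.pow_right i).mul_right (hz z hz' y)⟩
      · exact ⟨by
          rw [map_mul, map_mul, map_pow]
          exact (hxy'.mul_right ((Commute.refl _).pow_right i)).mul_right (hz z hz' x),
          by
          rw [map_mul, map_mul, map_pow]
          exact ((Commute.refl _).mul_right (hxy'.symm.pow_right i)).mul_right (hz z hz' y)⟩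
    intro p q
    obtain ⟨i, ⟨z, hz', rfl⟩ | ⟨z, hz', rfl⟩⟩ := hgen p
    · rw [map_mul, map_pow]
      exact (((h0 q).1.pow_left i)).mul_left (hz z hz' q).symm
    · rw [map_mul, map_mul, map_pow]
      exact ((h0 q).2.mul_left ((h0 q).1.pow_left i)).mul_left (hz z hz' q).symm
  have hle : _root_.commutator P ≤ C := by
    rw [_root_.commutator_def, commutator_le]
    intro p _ q _
    refine (QuotientGroup.eq_one_iff _).1 ?_
    show π ⁅p, q⁆ = 1
    rw [map_commutatorElement, commutatorElement_eq_one_iff_mul_comm]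
    exact (hall p q).eq
  exact fun hgood => hgood (isCyclic_of_injective (Subgroup.inclusion hle)
    (Subgroup.inclusion_injective hle))

/-- `S` centralizes every subgroup of odd order it normalizes. -/
theorem CI.invariant_le_centralizer (hG : CI G) (S : Sylow 2 G) (hS : Good (S : Subgroup G)) :
    ∀ Q : Subgroup G, Odd (Nat.card Q) → (S : Subgroup G) ≤ normalizer (Q : Set G) →
      Q ≤ centralizer ((S : Subgroup G) : Set G) := by
  classical
  haveI : Fact (Nat.Prime 2) := ⟨Nat.prime_two⟩
  intro Q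
  induction hn : Nat.card Q using Nat.strong_induction_on generalizing Q with
  | _ n ih =>
  intro hodd hSQ
  subst hn
  by_contra hne
  have hnorm : ∀ {s q : G}, s ∈ (S : Subgroup G) → q ∈ Q → s * q * s⁻¹ ∈ Q := fun hs hq =>
    (mem_normalizer_iff.1 (hSQ hs) _).1 hq
  -- a non-central element fixes only points fixed by all of `S`
  have hnc : ∀ x, NC (S : Subgroup G) x → ∀ q ∈ Q, q * x = x * q →
      q ∈ centralizer ((S : Subgroup G) : Set G) := by
    intro x hx q hq hqx
    refine mem_centralizer_iff.2 fun s hs => ?_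
    have hqN := hG.centralizer_le hx (mem_centralizer_singleton_iff.2 hqx)
    have h1 : s * q * s⁻¹ * q⁻¹ ∈ Q := mul_mem (hnorm hs hq) (inv_mem hq)
    have h2 : s * q * s⁻¹ * q⁻¹ ∈ (S : Subgroup G) := by
      rw [show s * q * s⁻¹ * q⁻¹ = s * (q * s⁻¹ * q⁻¹) by group]
      exact mul_mem hs ((mem_normalizer_iff.1 hqN _).1 (inv_mem hs))
    obtain ⟨k, hk⟩ := IsPGroup.iff_card.1 S.2
    have hbot : Q ⊓ (S : Subgroup G) = ⊥ := inf_eq_bot_of_coprime
      (by rw [hk]; exact (Nat.coprime_two_right.2 hodd).pow_right k)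
    have h3 : s * q * s⁻¹ * q⁻¹ = 1 := mem_bot.1 (hbot ▸ ⟨h1, h2⟩)
    rwa [mul_inv_eq_one, mul_inv_eq_iff_eq_mul] at h3
  -- an element of `S` outside the kernel fixes only such points
  have hfix : ∀ x ∈ (S : Subgroup G), (∃ q ∈ Q, q * x ≠ x * q) → ∀ q ∈ Q, q * x = x * q →
      q ∈ centralizer ((S : Subgroup G) : Set G) := by
    intro x hxS ⟨q₀, hq₀, hq₀x⟩ q hq hqx
    by_cases hx : NC (S : Subgroup G) x
    · exact hnc x hx q hq hqx
    simp only [NC, not_and, not_exists, not_not] at hx
    have hlt : Q ⊓ centralizer ({x} : Set G) < Q := lt_of_le_of_ne inf_le_left fun he =>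
      hq₀x (mem_centralizer_singleton_iff.1 (mem_inf.1 (he.symm ▸ hq₀)).2)
    refine ih _ ?_ (Q ⊓ centralizer ({x} : Set G)) rfl (hodd.of_dvd_nat (card_dvd_of_le inf_le_left))
      ?_ ⟨hq, mem_centralizer_singleton_iff.2 hqx⟩
    · exact lt_of_le_of_ne (card_le_of_le hlt.le) fun he => hlt.ne (eq_of_le_of_card_ge hlt.le he.ge)
    · intro s hs
      refine mem_normalizer_fintype fun q' hq' => ?_
      refine ⟨hnorm hs hq'.1, mem_centralizer_singleton_iff.2 ?_⟩
      exact (((show Commute s x from hx hxS s hs).mul_left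
        (show Commute q' x from mem_centralizer_singleton_iff.1 hq'.2)).mul_left
          (show Commute s x from hx hxS s hs).inv_left).eq
  -- the automorphisms induced by `S`
  let ι : (S : Subgroup G) →* normalizer (Q : Set G) := Subgroup.inclusion hSQ
  let θ : (S : Subgroup G) →* MulAut Q :=
    { toFun := fun s =>
        { toFun := fun q => ⟨s * q * (s : G)⁻¹, hnorm s.2 q.2⟩
          invFun := fun q => ⟨(s : G)⁻¹ * q * s, by simpa using hnorm (inv_mem s.2) q.2⟩
          left_inv := fun q => Subtype.ext (by simp [mul_assoc])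
          right_inv := fun q => Subtype.ext (by simp [mul_assoc])
          map_mul' := fun p q => Subtype.ext (by simp [mul_assoc]) }
      map_one' := by ext q; simp
      map_mul' := fun s t => by ext q; simp [mul_assoc] }
  have hθ : ∀ (s : (S : Subgroup G)) (q : Q), ((θ s q : Q) : G) = s * q * (s : G)⁻¹ := fun _ _ => rfl
  have hker1 : ∀ s : (S : Subgroup G), θ s = 1 ↔ ∀ q ∈ Q, q * (s : G) = s * q := by
    intro s
    constructor
    · intro h q hq
      have := congrArg Subtype.val (DFunLike.congr_fun h ⟨q, hq⟩)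
      rw [hθ] at this
      exact (mul_inv_eq_iff_eq_mul.1 this).symm
    · intro h
      ext q
      rw [hθ, MulAut.one_apply, ← h q q.2, mul_inv_cancel_right]
  have hker : θ.ker ≤ Subgroup.center (S : Subgroup G) := by
    intro s hs
    by_contra hc
    refine hne fun q hq => hnc s ⟨s.2, ?_⟩ q hq ((hker1 s).1 (MonoidHom.mem_ker.1 hs) q hq)
    by_contra hno
    push Not at hno
    exact hc (mem_center_iff.2 fun t => Subtype.ext (hno t t.2))
  set A := θ.range with hA
  have hAp : IsPGroup 2 A := IsPGroup.of_surjective S.2 θ.rangeRestrict θ.rangeRestrict_surjective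
  have hnofour : ∀ a b : A, orderOf a = 2 → orderOf b = 2 → Commute a b → a = b := by
    intro a b ha hb hab
    by_contra hne'
    refine hne fun q hq => ?_
    have hW := eq_top_of_four (Q := Q) (by simpa using hodd) A hAp ha hb hne' hab
      ((centralizer ((S : Subgroup G) : Set G)).subgroupOf Q) (by
        intro c hc q' hq'
        obtain ⟨s, hs⟩ := c.2
        refine mem_subgroupOf.2 (hfix s s.2 ?_ q' q'.2 ?_)
        · by_contra hno
          push Not at hno
          exact hc (Subtype.ext (hs ▸ (hker1 s).2 hno))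
        · rw [← hs] at hq'
          have := congrArg Subtype.val hq'
          rw [hθ] at this
          exact (mul_inv_eq_iff_eq_mul.1 this).symm)
    exact mem_subgroupOf.1 (hW.symm ▸ mem_top (⟨q, hq⟩ : Q))
  have huniq : ∀ a b : A, a ^ 2 = 1 → a ≠ 1 → b ^ 2 = 1 → b ≠ 1 → a = b := by
    intro a b ha2 ha1 hb2 hb1
    haveI : Nontrivial A := ⟨⟨a, 1, ha1⟩⟩
    haveI := hAp.center_nontrivial
    obtain ⟨z, hz⟩ : ∃ z : Subgroup.center A, orderOf z = 2 := by
      refine exists_prime_orderOf_dvd_card' 2 ?_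
      obtain ⟨k, hk⟩ := IsPGroup.iff_card.1 (hAp.to_subgroup (Subgroup.center A))
      have := Finite.one_lt_card (α := Subgroup.center A)
      rw [hk] at this ⊢
      rcases k with _ | k
      · simp at this
      · exact dvd_pow_self 2 (by omega)
    have hz' : orderOf (z : A) = 2 := by rw [orderOf_coe, hz]
    rw [hnofour a z (orderOf_eq_prime ha2 ha1) hz' (mem_center_iff.1 z.2 a),
      hnofour b z (orderOf_eq_prime hb2 hb1) hz' (mem_center_iff.1 z.2 b)]
  have hθs : Function.Surjective θ.rangeRestrict := θ.rangeRestrict_surjective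
  have hker' : θ.rangeRestrict.ker ≤ Subgroup.center (S : Subgroup G) := by
    rwa [MonoidHom.ker_rangeRestrict]
  rcases CfsgLib.TwoGroupsQ.isCyclic_or_quaternion hAp
      (CfsgLib.TwoGroupsQ.hasUniqueOrderP_two huniq) with hcyc | ⟨-, m, -, ⟨e⟩⟩
  · obtain ⟨x, hx⟩ := hS.exists_nc
    obtain ⟨hxS, y, hy, hyx⟩ := hx
    haveI := hcyc
    exact hyx (congrArg Subtype.val
      (commutative_of_cyclic_center_quotient θ.rangeRestrict hker' ⟨y, hy⟩ ⟨x, hxS⟩))
  · exact not_good_of_quaternion θ.rangeRestrict hθs hker' (pow_ne_zero m two_ne_zero) e hS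

end CfsgLib.CentralInter88
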