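import Cfsg.Agent.CentralInter88.Fpf
import Cfsg.Agent.Components.FStar
import Cfsg.Agent.Components.Layer
import Cfsg.Agent.Components.Basic
import Cfsg.Agent.S0205
import Cfsg.Agent.S0542
import Cfsg.Agent.S4593

/-!
# Central Sylow 2-intersections: the component of a group with trivial odd core

If a Sylow 2-subgroup `S` has non-cyclic derived subgroup and `O(G) = 1`, then either `S` is normal
and contains its centralizer, or `G` has a unique component `L`, `C_S(L) ≤ Z(S)` and
`S ∩ L` is not central in `S`.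
-/

set_option autoImplicit false
set_option linter.style.haveILetI false
set_option linter.unusedSectionVars false

open Subgroup
open scoped commutatorElement

namespace CfsgLib.CentralInter88

universe u

variable {G : Type u} [Group G] [Finite G]

/-- A homomorphism-like commutator map into the centre kills a perfect subgroup. -/
theorem commute_of_perfect {L : Subgroup G} (hL : ⁅L, L⁆ = L) {u : G}
    (h : ∀ l ∈ L, ∀ m ∈ L, Commute (u * l * u⁻¹ * l⁻¹) m) (hn : ∀ l ∈ L, u * l * u⁻¹ ∈ L) :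
    ∀ l ∈ L, Commute u l := by
  intro l hl
  have hle : ⁅L, L⁆ ≤ L ⊓ centralizer ({u} : Set G) := by
    rw [commutator_le]
    intro a ha b hb
    refine ⟨hL.le (commutator_mem_commutator ha hb), mem_centralizer_singleton_iff.2 ?_⟩
    obtain ⟨z, hz⟩ : ∃ z, z = u * a * u⁻¹ * a⁻¹ := ⟨_, rfl⟩
    obtain ⟨w, hw⟩ : ∃ w, w = u * b * u⁻¹ * b⁻¹ := ⟨_, rfl⟩
    have hza : ∀ m ∈ L, Commute z m := fun m hm => hz ▸ h a ha m hm
    have hwb : ∀ m ∈ L, Commute w m := fun m hm => hw ▸ h b hb m hm
    have hwL : w ∈ L := hw ▸ mul_mem (hn b hb) (inv_mem hb)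
    have h1 : u * ⁅a, b⁆ * u⁻¹ = ⁅a, b⁆ := by
      calc u * ⁅a, b⁆ * u⁻¹ = (z * a) * (w * b) * (z * a)⁻¹ * (w * b)⁻¹ := by
            rw [hz, hw, commutatorElement_def]; group
        _ = z * (a * (w * b) * a⁻¹) * z⁻¹ * b⁻¹ * w⁻¹ := by group
        _ = (a * (w * b) * a⁻¹) * b⁻¹ * w⁻¹ := by
            rw [(hza _ (mul_mem (mul_mem ha (mul_mem hwL hb)) (inv_mem ha))).eq, mul_inv_cancel_right]
        _ = (w * (a * b * a⁻¹)) * b⁻¹ * w⁻¹ := by
            rw [show a * (w * b) * a⁻¹ = (a * w) * b * a⁻¹ by group, ← (hwb a ha).eq]; group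
        _ = w * (a * b * a⁻¹ * b⁻¹) * w⁻¹ := by group
        _ = ⁅a, b⁆ := by
            rw [(hwb _ (mul_mem (mul_mem (mul_mem ha hb) (inv_mem ha)) (inv_mem hb))).eq,
              mul_inv_cancel_right, commutatorElement_def]
    exact (mul_inv_eq_iff_eq_mul.1 h1).symm
  exact (mem_centralizer_singleton_iff.1 (hle (hL.symm ▸ hl)).2).symm

theorem eq_one_of_odd_of_oddCore {Z : Subgroup G} [Z.Normal] (hZc : ∀ a ∈ Z, ∀ b ∈ Z, a * b = b * a)
    (hO : Cfsg.oddCore G = ⊥) {z : G} (hz : z ∈ Z) (ho : Odd (orderOf z)) : z = 1 := by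
  haveI : (zpowers (⟨z, hz⟩ : Z)).Normal := ⟨fun a ha g => by
    rwa [show g * a * g⁻¹ = a from Subtype.ext (by
      push_cast
      rw [hZc g g.2 a a.2, mul_inv_cancel_right])]⟩
  have hle : zpowers (⟨z, hz⟩ : Z) ≤ Cfsg.oddCore Z :=
    CfsgLib.PLocal.le_pPrimeCore (Nat.coprime_two_right.2 (by
      rwa [Nat.card_zpowers, Subgroup.orderOf_mk]))
  have h := CfsgLib.PLocal.pPrimeCore_map_subtype_le (p := 2) Z
    (mem_map_of_mem Z.subtype (hle (mem_zpowers _)))
  exact mem_bot.1 (hO.le h)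

theorem isPGroup_of_abelian_normal {Z : Subgroup G} [Z.Normal]
    (hZc : ∀ a ∈ Z, ∀ b ∈ Z, a * b = b * a) (hO : Cfsg.oddCore G = ⊥) : IsPGroup 2 Z := by
  intro z
  obtain ⟨k, m, hm, hn⟩ : ∃ k m, Odd m ∧ orderOf (z : G) = 2 ^ k * m := by
    obtain ⟨k, m, hm, h⟩ := Nat.exists_eq_two_pow_mul_odd (orderOf_pos (z : G)).ne'
    exact ⟨k, m, hm, h⟩
  refine ⟨k, Subtype.ext ?_⟩
  push_cast
  refine eq_one_of_odd_of_oddCore hZc hO (pow_mem z.2 _) (hm.of_dvd_nat ?_)
  rw [orderOf_pow_of_dvd (pow_ne_zero _ two_ne_zero) (hn ▸ Dvd.intro m rfl), hn,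
    Nat.mul_div_cancel_left _ (by positivity)]

/-- Automorphisms act on the central quotient. -/
def centerQuotAut (L : Type*) [Group L] : MulAut L →* MulAut (L ⧸ Subgroup.center L) where
  toFun a := QuotientGroup.congr (Subgroup.center L) (Subgroup.center L) a
    (Subgroup.characteristic_iff_map_eq.1 inferInstance a)
  map_one' := by
    ext x
    obtain ⟨l, rfl⟩ := QuotientGroup.mk_surjective x
    rfl
  map_mul' a b := by
    ext x
    obtain ⟨l, rfl⟩ := QuotientGroup.mk_surjective x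
    rfl

theorem centerQuotAut_mk {L : Type*} [Group L] (a : MulAut L) (l : L) :
    centerQuotAut L a (QuotientGroup.mk' (Subgroup.center L) l) =
      QuotientGroup.mk' (Subgroup.center L) (a l) := rfl

theorem isSolvable_center (L : Type*) [Group L] : Group.IsSolvable (Subgroup.center L) :=
  Group.isSolvable_of_comm fun a b => Subtype.ext (mem_center_iff.1 b.2 a)

/-- A 2-element normalizing a Sylow subgroup lies in it. -/
theorem mem_sylow_of_normalizer {H : Type*} [Group H] [Finite H] (P : Sylow 2 H) {g : H} {n : ℕ}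
    (hg : g ^ 2 ^ n = 1) (hn : g ∈ normalizer ((P : Subgroup H) : Set H)) :
    g ∈ (P : Subgroup H) := by
  haveI : Fact (Nat.Prime 2) := ⟨Nat.prime_two⟩
  have hgp : IsPGroup 2 (zpowers g) := IsPGroup.of_card_dvd_pow (n := n) (by
    rw [Nat.card_zpowers]; exact orderOf_dvd_of_pow_eq_one hg)
  have hp : IsPGroup 2 ((P : Subgroup H) ⊔ zpowers g : Subgroup H) :=
    P.2.to_sup_of_normal_left' hgp (zpowers_le.2 hn)
  have he := P.is_maximal' hp le_sup_left
  exact he.le (le_sup_right (a := (P : Subgroup H)) (mem_zpowers g))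

variable {S : Sylow 2 G}

/-- `O₂(G)` is central in `S` when `S` is not normal. -/
theorem CI.pCore_central (hG : CI G) (hS : ¬ (S : Subgroup G).Normal) {x s : G}
    (hx : x ∈ Cfsg.pCore 2 G) (hs : s ∈ (S : Subgroup G)) : s * x = x * s := by
  haveI : Fact (Nat.Prime 2) := ⟨Nat.prime_two⟩
  haveI : (Cfsg.pCore 2 G).Normal := inferInstance
  obtain ⟨g, hg⟩ : ∃ g : G, g • S ≠ S := by
    by_contra hno
    push Not at hno
    exact hS (normalizer_eq_top_iff.1 (top_unique fun g _ =>
      Sylow.smul_eq_iff_mem_normalizer.1 (hno g)))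
  exact hG.central hg.symm
    (le_sylow_of_normal (CfsgLib.Components.isPGroup_pCore 2) S hx)
    (le_sylow_of_normal (CfsgLib.Components.isPGroup_pCore 2) (g • S) hx) hs

/-- A component is not contained in the normalizer of `S`. -/
theorem component_not_le {L : Subgroup G} (hL : Cfsg.IsComponent L) (S : Sylow 2 G) :
    ¬ L ≤ normalizer ((S : Subgroup G) : Set G) := by
  haveI : Fact (Nat.Prime 2) := ⟨Nat.prime_two⟩
  intro hle
  obtain ⟨Q, hQ⟩ := Cfsg.Agent.S0542.result 2 L hL.1 S
  haveI hn : ((S : Subgroup G).subgroupOf L).Normal :=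
    ⟨fun x hx g => (mem_normalizer_iff.1 (hle g.2) x).1 hx⟩
  refine CfsgLib.Components.IsComponent.not_isSolvable hL ?_
  haveI : Group.IsSolvable (L ⧸ (S : Subgroup G).subgroupOf L) := Cfsg.Agent.S0205.result (by
    rw [← index_eq_card, ← hQ, Nat.odd_iff, ← Nat.two_dvd_ne_zero]
    exact Q.not_dvd_index)
  haveI : Group.IsNilpotent ((S : Subgroup G).subgroupOf L) := (hQ ▸ Q.2 :
    IsPGroup 2 ((S : Subgroup G).subgroupOf L)).isNilpotent
  exact Group.isSolvable_of_ker_le_range ((S : Subgroup G).subgroupOf L).subtype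
    (QuotientGroup.mk' ((S : Subgroup G).subgroupOf L))
    (by rw [QuotientGroup.ker_mk', range_subtype])

/-- An element of `S` centralizing a component is central in `S`. -/
theorem CI.central_of_commute_component (hG : CI G) {L : Subgroup G} (hL : Cfsg.IsComponent L)
    {x : G} (hx : x ∈ (S : Subgroup G)) (hxL : ∀ l ∈ L, Commute x l) {s : G}
    (hs : s ∈ (S : Subgroup G)) : s * x = x * s := by
  by_contra h
  exact component_not_le hL S fun l hl =>
    hG.centralizer_le ⟨hx, s, hs, h⟩ (mem_centralizer_singleton_iff.2 (hxL l hl).eq.symm)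

/-- Conjugation by `s` on a component it fixes pointwise on a Sylow subgroup is inner. -/
theorem exists_inner {L : Subgroup G} (hL : Cfsg.IsComponent L) {s : G} {j : ℕ}
    (hs : orderOf s = 2 ^ j) (hsL : s ∈ normalizer (L : Set G)) (hS : s ∈ (S : Subgroup G))
    (hcen : ∀ x ∈ (S : Subgroup G) ⊓ L, ∀ y ∈ (S : Subgroup G), y * x = x * y) :
    ∃ e ∈ (S : Subgroup G) ⊓ L, ∀ l ∈ L, Commute (e⁻¹ * s) l := by
  classical
  haveI : Fact (Nat.Prime 2) := ⟨Nat.prime_two⟩
  haveI hsimple : IsSimpleGroup (L ⧸ Subgroup.center L) := hL.2.2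
  haveI : Finite (L ⧸ Subgroup.center L) := inferInstance
  obtain ⟨Q, hQ⟩ := Cfsg.Agent.S0542.result 2 L hL.1 S
  set π := QuotientGroup.mk' (Subgroup.center L) with hπ
  have hπs : Function.Surjective π := QuotientGroup.mk'_surjective _
  let P : Sylow 2 (L ⧸ Subgroup.center L) := Q.mapSurjective hπs
  let a : MulAut L := normalizerMonoidHom L ⟨s, hsL⟩
  have ha : ∀ l : L, ((a l : L) : G) = s * l * s⁻¹ := fun l => rfl
  let α : MulAut (L ⧸ Subgroup.center L) := centerQuotAut L a
  have hα : ∀ l : L, α (π l) = π (a l) := fun l => centerQuotAut_mk a l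
  have hα2 : α ^ 2 ^ j = 1 := by
    have h1 : (⟨s, hsL⟩ : normalizer (L : Set G)) ^ 2 ^ j = 1 := Subtype.ext (by
      push_cast
      rw [← hs, pow_orderOf_eq_one])
    show (centerQuotAut L (normalizerMonoidHom L ⟨s, hsL⟩)) ^ 2 ^ j = 1
    rw [← map_pow, ← map_pow, h1, map_one, map_one]
  obtain ⟨i, -, hi⟩ := (Nat.dvd_prime_pow Nat.prime_two).1 (orderOf_dvd_of_pow_eq_one hα2)
  have hnc : ¬ IsMulCommutative (L ⧸ Subgroup.center L) := fun h => by
    have hsol : Group.IsSolvable (L ⧸ Subgroup.center L) := IsSimpleGroup.comm_iff_isSolvable.1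
      fun a b => h.is_comm.comm a b
    refine CfsgLib.Components.IsComponent.not_isSolvable hL ?_
    haveI := hsol
    haveI := isSolvable_center L
    exact Group.isSolvable_of_ker_le_range (Subgroup.center L).subtype π
      (by rw [hπ, QuotientGroup.ker_mk', range_subtype])
  have hZ : Subgroup.center (L ⧸ Subgroup.center L) = ⊥ :=
    (IsSimpleGroup.eq_bot_or_eq_top_of_normal _ inferInstance).resolve_right fun h =>
      hnc ⟨⟨fun a b => (mem_center_iff.1 (h ▸ mem_top b) a)⟩⟩
  have hcore : Cfsg.pPrimeCore 2 (L ⧸ Subgroup.center L) = ⊥ :=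
    (IsSimpleGroup.eq_bot_or_eq_top_of_normal _ inferInstance).resolve_right fun h => by
      have := CfsgLib.PLocal.coprime_card_pPrimeCore 2 (L ⧸ Subgroup.center L)
      rw [h, Subgroup.card_top] at this
      exact hnc ⟨⟨IsSimpleGroup.comm_iff_isSolvable.2
        (Cfsg.Agent.S0205.result (Nat.coprime_two_right.1 this))⟩⟩
  have hPmem : ∀ x ∈ (P : Subgroup (L ⧸ Subgroup.center L)), ∃ l : L,
      (l : G) ∈ (S : Subgroup G) ∧ π l = x := by
    rintro x ⟨l, hl, rfl⟩
    rw [SetLike.mem_coe, hQ] at hl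
    exact ⟨l, hl, rfl⟩
  have hab : IsMulCommutative (P : Subgroup (L ⧸ Subgroup.center L)) := ⟨⟨fun x y => by
    obtain ⟨l, hl, hlx⟩ := hPmem x x.2
    obtain ⟨m, hm, hmy⟩ := hPmem y y.2
    refine Subtype.ext ?_
    push_cast
    rw [← hlx, ← hmy, ← map_mul, ← map_mul]
    exact congrArg π (Subtype.ext (hcen m ⟨hm, m.2⟩ l hl))⟩⟩
  obtain ⟨g, hg⟩ := Cfsg.Agent.S4593.result hZ hcore P hab α ⟨i, hi⟩ fun x hx => by
    obtain ⟨l, hl, rfl⟩ := hPmem x hx
    rw [hα]
    refine congrArg π (Subtype.ext ?_)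
    rw [ha, hcen l ⟨hl, l.2⟩ s hS, mul_inv_cancel_right]
  -- `g` is a 2-element centralizing `P`
  have hgP : g ∈ (P : Subgroup (L ⧸ Subgroup.center L)) := by
    have hgpow : g ^ 2 ^ j = 1 := by
      have hk : ∀ (n : ℕ) x, (α ^ n) x = g ^ n * x * (g ^ n)⁻¹ := by
        intro n
        induction n with
        | zero => intro x; simp
        | succ n ih => intro x; rw [pow_succ, pow_succ, MulAut.mul_apply, hg, ih]; group
      rw [← mem_bot, ← hZ, mem_center_iff]
      intro x
      have := hk (2 ^ j) x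
      rw [hα2, MulAut.one_apply] at this
      exact mul_inv_eq_iff_eq_mul.1 this.symm |>.symm
    refine mem_sylow_of_normalizer P hgpow (mem_normalizer_fintype fun x hx => ?_)
    rw [← hg]
    obtain ⟨l, hl, rfl⟩ := hPmem x hx
    rw [hα]
    refine ⟨a l, ?_, rfl⟩
    rw [SetLike.mem_coe, hQ, mem_subgroupOf, ha, hcen l ⟨hl, l.2⟩ s hS, mul_inv_cancel_right]
    exact hl
  obtain ⟨e, he, rfl⟩ := hPmem g hgP
  refine ⟨e, ⟨he, e.2⟩, commute_of_perfect (CfsgLib.Components.IsComponent.commutator_eq_self hL)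
    (fun l hl m hm => ?_) fun l hl => ?_⟩
  · have h1 : π (a ⟨l, hl⟩) = π (e * ⟨l, hl⟩ * e⁻¹) := by
      rw [← hα, hg, map_mul, map_mul, map_inv]
    have h2 : (e⁻¹ * a ⟨l, hl⟩ * e) * (⟨l, hl⟩ : L)⁻¹ ∈ Subgroup.center L := by
      rw [← QuotientGroup.eq_one_iff]
      show π _ = 1
      rw [map_mul, map_mul, map_mul, h1, map_mul, map_mul, map_inv, map_inv]
      group
    have h3 := congrArg Subtype.val (mem_center_iff.1 h2 ⟨m, hm⟩)
    push_cast [ha] at h3
    show _ * m = m * _
    rw [show (e : G)⁻¹ * s * l * ((e : G)⁻¹ * s)⁻¹ * l⁻¹ = (e : G)⁻¹ * (s * l * s⁻¹) * e * l⁻¹ by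
      group]
    exact h3.symm
  · rw [show (e : G)⁻¹ * s * l * ((e : G)⁻¹ * s)⁻¹ = (e : G)⁻¹ * (s * l * s⁻¹) * e by group]
    exact mul_mem (mul_mem (inv_mem e.2) ((mem_normalizer_iff.1 hsL l).1 hl)) e.2

/-- A component with Sylow subgroup central in `S` is impossible. -/
theorem CI.component_not_central (hG : CI G) (hgood : Good (S : Subgroup G)) {L : Subgroup G}
    (hL : Cfsg.IsComponent L) :
    ¬ ∀ x ∈ (S : Subgroup G) ⊓ L, ∀ y ∈ (S : Subgroup G), y * x = x * y := by
  haveI : Fact (Nat.Prime 2) := ⟨Nat.prime_two⟩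
  intro hcen
  obtain ⟨x, hxS, y, hy, hyx⟩ := hgood.exists_nc
  refine hyx ?_
  obtain ⟨Q, hQ⟩ := Cfsg.Agent.S0542.result 2 L hL.1 S
  have hnorm : x ∈ normalizer (L : Set G) := by
    have hL' := CfsgLib.Components.IsComponent.conj hL x
    by_contra hne
    have hne' : L.map (MulAut.conj x).toMonoidHom ≠ L := fun h =>
      hne (CfsgLib.Inv53.mem_normalizer_iff_map_conj.2 h)
    have hc := CfsgLib.Components.IsComponent.commutator_eq_bot_of_ne hL' hL hne'
    rw [commutator_eq_bot_iff_le_centralizer] at hc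
    -- `S ∩ L` is then central in `L`
    refine CfsgLib.Components.IsComponent.not_isSolvable hL ?_
    have hcl : (Q : Subgroup L) ≤ Subgroup.center L := by
      intro z hz
      rw [hQ, mem_subgroupOf] at hz
      refine mem_center_iff.2 fun m => Subtype.ext ?_
      have hzm : x * (z : G) * x⁻¹ = z := by rw [hcen z ⟨hz, z.2⟩ x hxS, mul_inv_cancel_right]
      have := mem_centralizer_iff.1 (hc ⟨z, z.2, hzm⟩) m m.2
      exact this
    haveI : Group.IsSolvable (L ⧸ Subgroup.center L) := Cfsg.Agent.S0205.result (by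
      rw [← index_eq_card, Nat.odd_iff, ← Nat.two_dvd_ne_zero]
      exact fun h => Q.not_dvd_index (h.trans (index_dvd_of_le hcl)))
    haveI := isSolvable_center L
    exact Group.isSolvable_of_ker_le_range (Subgroup.center L).subtype
      (QuotientGroup.mk' (Subgroup.center L)) (by rw [QuotientGroup.ker_mk', range_subtype])
  obtain ⟨j, hj⟩ := IsPGroup.iff_orderOf.1 S.2 ⟨x, hxS⟩
  rw [Subgroup.orderOf_mk] at hj
  obtain ⟨e, he, hc⟩ := exists_inner hL hj hnorm hxS hcen
  have h1 := hG.central_of_commute_component hL (mul_mem (inv_mem he.1) hxS) hc hy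
  have h2 := hcen e he y hy
  calc y * x = y * e * (e⁻¹ * x) := by group
    _ = e * (y * (e⁻¹ * x)) := by rw [h2, mul_assoc]
    _ = x * y := by rw [h1]; group

/-- Two components coincide. -/
theorem CI.component_unique (hG : CI G) (hgood : Good (S : Subgroup G)) {L L' : Subgroup G}
    (hL : Cfsg.IsComponent L) (hL' : Cfsg.IsComponent L') : L = L' := by
  by_contra hne
  refine hG.component_not_central hgood hL fun x hx y hy => ?_
  have hc := commutator_eq_bot_iff_le_centralizer.1
    (CfsgLib.Components.IsComponent.commutator_eq_bot_of_ne hL hL' hne)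
  by_contra h
  refine component_not_le hL' S fun m hm => hG.centralizer_le ⟨hx.1, y, hy, h⟩
    (mem_centralizer_singleton_iff.2 (mem_centralizer_iff.1 (hc hx.2) m hm))

theorem CI.component_normal (hG : CI G) (hgood : Good (S : Subgroup G)) {L : Subgroup G}
    (hL : Cfsg.IsComponent L) : L.Normal := by
  refine normalizer_eq_top_iff.1 (top_unique fun g _ => ?_)
  exact CfsgLib.Inv53.mem_normalizer_iff_map_conj.2
    (hG.component_unique hgood (CfsgLib.Components.IsComponent.conj hL g) hL)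

/-- With trivial odd core: a normal `S` containing its centralizer, or a component. -/
theorem CI.closed_or_component (hG : CI G) (hO : Cfsg.oddCore G = ⊥) (S : Sylow 2 G) :
    ((S : Subgroup G).Normal ∧
        centralizer ((S : Subgroup G) : Set G) ≤ (S : Subgroup G)) ∨
      ∃ L : Subgroup G, Cfsg.IsComponent L := by
  haveI : Fact (Nat.Prime 2) := ⟨Nat.prime_two⟩
  by_cases hL : Cfsg.layer G = ⊥
  swap
  · refine Or.inr ?_
    by_contra hno
    push Not at hno
    exact hL (CfsgLib.Components.layer_eq_bot_iff.2 hno)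
  left
  have hF := CfsgLib.Components.generalizedFitting_eq_pCore (G := G) 2 hL fun N hN hc => by
    rw [eq_bot_iff, ← hO]
    exact CfsgLib.PLocal.le_pPrimeCore (hN := hN) hc
  have hC := CfsgLib.Components.centralizer_generalizedFitting_le_self (G := G)
  rw [hF] at hC
  have hPS : Cfsg.pCore 2 G ≤ (S : Subgroup G) := by
    haveI : (Cfsg.pCore 2 G).Normal := inferInstance
    exact le_sylow_of_normal (CfsgLib.Components.isPGroup_pCore 2) S
  have hn : (S : Subgroup G).Normal := by
    by_contra hn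
    have hle0 : (S : Subgroup G) ≤ centralizer ((Cfsg.pCore 2 G : Subgroup G) : Set G) :=
      fun s hs => mem_centralizer_iff.2 fun x hx => (hG.pCore_central hn hx hs).symm
    have hle : (S : Subgroup G) ≤ Cfsg.pCore 2 G := hle0.trans hC
    haveI : (Cfsg.pCore 2 G).Normal := inferInstance
    exact hn (le_antisymm hPS hle ▸ inferInstance)
  exact ⟨hn, ((Subgroup.centralizer_le (SetLike.coe_subset_coe.2 hPS)).trans hC).trans hPS⟩

end CfsgLib.CentralInter88
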