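import Cfsg.Agent.BenderUse.Split
import Cfsg.Agent.SchurBound.Basic
import Cfsg.Agent.Linear.Basic
import Cfsg.Agent.Suzuki.Stabilizer
import Cfsg.Agent.Suzuki.LieModel
import Cfsg.Agent.S0252
import Cfsg.Agent.S0253
import Cfsg.Agent.S2086
import Cfsg.Agent.S2089
import Cfsg.Agent.S2111
import Cfsg.Agent.S2112
import Mathlib

/-!
# The 2-covers of the groups with a strongly embedded subgroup

A perfect group with non-trivial centre of 2-power order whose central quotient is in `Families`
is a cover of `PSL₂(4)` by a group of order 2, or a cover of `Sz(8)`.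
-/

set_option autoImplicit false
set_option linter.style.haveILetI false
set_option linter.unusedSectionVars false

open Subgroup

namespace CfsgLib.CentralInter88

universe u

/-- A finite group is isomorphic to one in `Type`. -/
theorem exists_small (L : Type u) [Group L] [Finite L] :
    ∃ (L₀ : Type) (_ : Group L₀) (_ : Finite L₀), Nonempty (L ≃* L₀) := by
  classical
  let ψ : L →* Equiv.Perm (Fin (Nat.card L)) :=
    (Finite.equivFin L).permCongrHom.toMonoidHom.comp (MulAction.toPermHom L L)
  exact ⟨ψ.range, inferInstance, inferInstance, ⟨MonoidHom.ofInjective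
    ((Finite.equivFin L).permCongrHom.injective.comp MulAction.toPerm_injective)⟩⟩

/-- A multiplier bounds the centre of a perfect cover. -/
theorem card_center_le {L : Type u} [Group L] [Finite L] (hperf : _root_.commutator L = ⊤)
    {Q : Type} [Group Q] (e : L ⧸ Subgroup.center L ≃* Q) {A : Type} [CommGroup A]
    (hA : Cfsg.HasSchurMultiplier Q A) :
    ∃ d, d ∣ Nat.card A ∧ Nat.card (Subgroup.center L) = d := by
  obtain ⟨L₀, _, _, ⟨f⟩⟩ := exists_small L
  let σ : L₀ →* Q := e.toMonoidHom.comp ((QuotientGroup.mk' (Subgroup.center L)).comp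
    f.symm.toMonoidHom)
  have hker : σ.ker = (Subgroup.center L).map f.toMonoidHom := by
    ext x
    simp only [σ, MonoidHom.mem_ker, MonoidHom.comp_apply, MulEquiv.coe_toMonoidHom,
      EmbeddingLike.map_eq_one_iff, QuotientGroup.mk'_apply, QuotientGroup.eq_one_iff]
    exact ⟨fun h => ⟨f.symm x, h, f.apply_symm_apply x⟩, fun ⟨y, hy, hyx⟩ => by
      rw [← hyx]; simpa using hy⟩
  have hstem : Cfsg.IsStemExtension σ := by
    refine ⟨e.surjective.comp ((QuotientGroup.mk'_surjective _).comp f.symm.surjective), ?_, ?_⟩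
    · rw [hker]
      rintro _ ⟨y, hy, rfl⟩
      refine mem_center_iff.2 fun x => f.symm.injective ?_
      simpa using mem_center_iff.1 hy (f.symm x)
    · intro x _
      have : _root_.commutator L₀ = ⊤ := by
        rw [_root_.commutator_def, ← map_top_of_surjective f.toMonoidHom f.surjective,
          ← map_commutator, ← _root_.commutator_def, hperf]
      rw [this]; exact mem_top x
  obtain ⟨π, hπ⟩ := hA.2 L₀ σ hstem
  refine ⟨_, Subgroup.card_dvd_of_surjective π hπ, ?_⟩
  rw [hker, card_map_of_injective f.injective]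

/-- The possible covers. -/
theorem center_cases {L : Type u} [Group L] [Finite L] (hperf : _root_.commutator L = ⊤)
    (h2 : IsPGroup 2 (Subgroup.center L)) (hne : Subgroup.center L ≠ ⊥)
    (hfam : CfsgLib.BenderUse.Families (L ⧸ Subgroup.center L)) :
    (Nat.card (L ⧸ Subgroup.center L) = 60 ∧ Nat.card (Subgroup.center L) ≤ 2) ∨
      (Nat.card (L ⧸ Subgroup.center L) = 29120 ∧ Nat.card (Subgroup.center L) ≤ 4) := by
  haveI : Fact (Nat.Prime 2) := ⟨Nat.prime_two⟩
  have key : ∀ d, Nat.card (Subgroup.center L) ∣ d → ¬ 2 ∣ d → False := by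
    intro d hd h2d
    obtain ⟨k, hk⟩ := IsPGroup.iff_card.1 h2
    rcases k with _ | k
    · exact hne (Subgroup.card_eq_one.1 (by simpa using hk))
    · exact h2d ((dvd_pow_self 2 (by omega)).trans (hk ▸ hd))
  rcases hfam with ⟨F, iF, fF, ⟨n, hn, hF⟩, ⟨e⟩⟩ | ⟨F, iF, fF, m, hm, hF, ⟨e⟩⟩ |
      ⟨F, iF, fF, n, hn, hF, ⟨e⟩⟩
  · rcases Nat.lt_or_ge n 3 with hn3 | hn3
    · obtain rfl : n = 2 := by omega
      left
      haveI : Fact (Nat.Prime 5) := ⟨by norm_num⟩
      obtain ⟨e₁⟩ := Cfsg.Agent.S0252.result (hF.trans (by norm_num))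
      obtain ⟨e₂⟩ := Cfsg.Agent.S0253.result (ZMod.card 5)
      refine ⟨?_, ?_⟩
      · rw [Nat.card_congr e.toEquiv, CfsgLib.Linear.card_PSL_two_even
          (by rw [hF]; exact ⟨2, by norm_num⟩), hF]
        norm_num
      obtain ⟨d, hd, hd'⟩ := card_center_le hperf ((e.trans e₁).trans e₂.symm)
        (Cfsg.Agent.S2086.result (q := 5) (ZMod.card 5) 2 le_rfl (fun _ => by norm_num) (by simp))
      rw [hd']
      refine Nat.le_of_dvd two_pos (hd.trans ?_)
      simp
    · exfalso
      obtain ⟨d, hd, hd'⟩ := card_center_le hperf e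
        (Cfsg.Agent.S2086.result (q := 2 ^ n) hF 2 le_rfl
          (fun _ => le_trans (by norm_num) (Nat.pow_le_pow_right two_pos hn)) (by
            have h8 : 8 ≤ 2 ^ n := le_trans (by norm_num) (Nat.pow_le_pow_right two_pos hn3)
            have h9 : 2 ^ n ≠ 9 := fun h => by
              have : 2 ∣ 2 ^ n := dvd_pow_self 2 (by omega)
              omega
            simp only [Set.mem_insert_iff, Set.mem_singleton_iff, Prod.mk.injEq, not_or]
            refine ⟨?_, ?_, ?_, ?_, ?_⟩ <;> rintro ⟨h1, h2⟩ <;> omega))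
      refine key _ (hd' ▸ hd) ?_
      rw [Nat.card_congr Multiplicative.toAdd, Nat.card_zmod]
      intro h
      have h1 : 2 ∣ 2 ^ n - 1 := h.trans (Nat.gcd_dvd_right _ _)
      have h2' : 2 ∣ 2 ^ n := dvd_pow_self 2 (by omega)
      have := Nat.one_le_two_pow (n := n)
      omega
  · rcases Nat.lt_or_ge m 2 with hm2 | hm2
    · obtain rfl : m = 1 := by omega
      right
      have hF8 : Fintype.card F = 8 := by rw [hF]; norm_num
      refine ⟨?_, ?_⟩
      · rw [Nat.card_congr e.toEquiv,
          ← Nat.card_congr (CfsgLib.Suzuki.lieSzEquiv (F := F) (m := 1) ⟨le_rfl, hF⟩).toEquiv,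
          CfsgLib.Suzuki.card_sz ⟨le_rfl, hF⟩, hF8]
        norm_num
      obtain ⟨d, hd, hd'⟩ := card_center_le hperf (A := Multiplicative (ZMod 2 × ZMod 2))
        (show L ⧸ Subgroup.center L ≃* ↥(Cfsg.Lie.Sz F 4) from e) (Cfsg.Agent.S2112.result hF8)
      rw [hd']
      refine Nat.le_of_dvd (by norm_num) (hd.trans ?_)
      simp [Nat.card_prod]
    · exfalso
      obtain ⟨d, hd, hd'⟩ := card_center_le hperf e (Cfsg.Agent.S2111.result hm2 hF)
      exact key _ (hd' ▸ hd) (by simp)
  · exfalso
    have hq4 : 4 ≤ 2 ^ n := le_trans (by norm_num) (Nat.pow_le_pow_right two_pos hn)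
    obtain ⟨d, hd, hd'⟩ := card_center_le hperf e (Cfsg.Agent.S2089.result 3 (2 ^ n) hF le_rfl
      (fun h => by omega) (by simp))
    refine key _ (hd' ▸ hd) ?_
    rw [Nat.card_congr Multiplicative.toAdd, Nat.card_zmod]
    exact fun h => absurd (h.trans (Nat.gcd_dvd_left _ _)) (by norm_num)

end CfsgLib.CentralInter88
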